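/-
Sequences of braid moves reducing three words to the empty word in the Coxeter group of the diagram.
-/
import Cfsg.Agent.Lib.CosetEnum.Basic

set_option autoImplicit false
set_option maxRecDepth 1000000

namespace CfsgLib.CosetEnum.Fi22Mult

/-- The conjugators of the spider word. -/
def conjU : List ℕ := [8, 7, 5, 2]

/-- The second conjugator. -/
def conjV : List ℕ := [3, 4, 2, 3]

/-- Moves. -/
def spiderMv0 : List (ℕ × ℕ) := [(89, 2), (88, 2), (86, 0), (87, 2), (86, 1), (88, 2), (83, 0), (84, 0), (81, 1), (83, 0), (84, 1), (86, 0),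
  (87, 2), (86, 2), (83, 0), (84, 0), (85, 2), (77, 0), (78, 0), (79, 0), (80, 0), (81, 0), (82, 0), (83, 0),
  (84, 2), (81, 0), (74, 0), (75, 0), (76, 0), (77, 0), (78, 0), (79, 1), (81, 1), (83, 2), (78, 0), (79, 0),
  (80, 0), (81, 0), (77, 0), (78, 0), (72, 1), (74, 0), (75, 1), (77, 0), (78, 1), (80, 0), (81, 1), (83, 2),
  (80, 0), (81, 0), (79, 0), (71, 0), (72, 0), (73, 0), (74, 0), (75, 0), (76, 0), (77, 1), (79, 1), (81, 1),
  (83, 2), (82, 0), (83, 2), (72, 1), (74, 0), (75, 0), (76, 0), (77, 0), (71, 0), (72, 1), (74, 0), (70, 0),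
  (59, 0), (60, 0), (61, 0), (62, 0), (63, 0), (64, 0), (65, 0), (66, 1), (68, 1), (70, 1), (72, 0), (73, 0),
  (74, 1), (76, 0), (77, 1), (79, 0), (80, 0), (81, 0), (82, 2), (79, 0), (80, 0), (81, 0), (64, 0), (65, 0),
  (66, 0), (67, 0), (68, 0), (69, 0), (70, 0), (71, 1), (62, 1), (64, 0), (65, 0), (57, 1), (59, 0), (60, 0),
  (61, 0), (62, 1), (64, 0), (65, 1), (67, 0), (68, 0), (69, 1), (71, 0), (72, 1), (74, 0), (75, 0), (76, 0),
  (77, 1), (79, 0), (80, 0), (81, 1), (83, 2), (82, 0), (83, 2), (70, 1), (72, 0), (73, 0), (74, 0), (75, 0),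
  (76, 0), (77, 1), (79, 0), (80, 0), (81, 0), (82, 2), (78, 0), (79, 0), (80, 0), (81, 2), (74, 0), (75, 0),
  (76, 0), (77, 0), (78, 1), (69, 0), (70, 1), (72, 0), (73, 0), (74, 1), (76, 0), (72, 0), (67, 0), (68, 0),
  (69, 0), (70, 1), (72, 1), (74, 0), (75, 0), (76, 1), (78, 0), (79, 1), (81, 0), (82, 0), (71, 0), (67, 0),
  (68, 0), (69, 1), (71, 1), (73, 0), (64, 0), (65, 0), (66, 0), (67, 0), (68, 0), (69, 0), (63, 0), (61, 1),
  (63, 1), (65, 0), (66, 0), (64, 0), (62, 0), (56, 0), (57, 0), (58, 0), (59, 0), (60, 0), (61, 0), (62, 1),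
  (64, 1), (66, 1), (68, 0), (69, 1), (71, 0), (72, 0), (73, 1), (65, 0), (61, 0), (62, 0), (63, 1), (65, 1),
  (67, 0), (68, 0), (69, 0), (70, 1), (53, 0), (54, 0), (55, 0), (56, 0), (57, 1), (51, 1), (53, 0), (54, 0),
  (55, 1), (57, 0), (58, 1), (60, 0), (61, 0), (53, 0), (41, 0), (42, 0), (43, 0), (44, 0), (45, 0), (46, 0),
  (47, 0), (48, 1), (50, 0), (51, 1), (53, 1), (55, 0), (56, 0), (57, 0), (58, 1), (60, 0), (61, 1), (63, 0),
  (64, 0), (65, 1), (67, 0), (68, 1), (70, 0), (71, 1), (73, 0), (74, 1), (76, 0), (77, 0), (78, 0), (79, 1),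
  (81, 0), (82, 1), (84, 2), (76, 1), (78, 0), (79, 0), (80, 0), (75, 0), (76, 1), (78, 0), (79, 0), (80, 1),
  (82, 0), (83, 2), (82, 2), (69, 1), (71, 0), (72, 0), (73, 0), (74, 0), (75, 0), (68, 0), (69, 1), (71, 0),
  (67, 0), (68, 0), (69, 1), (71, 1), (73, 0), (66, 0), (64, 1), (66, 1), (68, 0), (69, 0), (62, 1), (64, 0),
  (65, 0), (66, 1), (68, 0), (69, 1), (71, 0), (55, 1), (57, 0), (58, 0), (59, 0), (54, 0), (55, 1), (57, 0),
  (58, 0), (59, 1), (61, 0), (62, 0), (63, 0), (60, 0), (53, 0), (54, 0), (55, 1), (57, 0), (58, 0), (52, 0),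
  (53, 0), (51, 0), (43, 0), (44, 0), (45, 0), (46, 0), (47, 0), (48, 0), (49, 1), (51, 1), (53, 1), (55, 0),
  (56, 0), (57, 0), (58, 1), (60, 1), (62, 0), (63, 1), (65, 0), (66, 0), (67, 0), (45, 0), (46, 0), (47, 0),
  (48, 0), (49, 0), (50, 0), (51, 0), (52, 0), (53, 0), (54, 1), (56, 0), (43, 1), (45, 0), (46, 0), (47, 0),
  (48, 0), (39, 1), (41, 0), (42, 0), (43, 1), (45, 0), (41, 0), (29, 0), (30, 0), (31, 0), (32, 0), (33, 0),
  (34, 0), (35, 0), (36, 1), (38, 0), (39, 1), (41, 1), (43, 0), (44, 0), (45, 1), (47, 0), (48, 1), (50, 0),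
  (51, 0), (52, 1), (54, 0), (55, 0), (56, 1), (58, 0), (59, 0), (60, 1), (62, 0), (63, 1), (65, 0), (66, 0),
  (67, 1), (69, 0), (70, 0), (71, 1), (73, 1), (75, 1), (77, 0), (78, 0), (79, 0), (80, 0), (81, 2), (66, 0),
  (67, 0), (68, 0), (65, 0), (66, 0)]

/-- Moves. -/
def spiderMv1 : List (ℕ × ℕ) := [(64, 0), (62, 1), (64, 1), (66, 1), (68, 1), (70, 0), (71, 0), (72, 0), (73, 0), (74, 0), (75, 0), (76, 1),
  (78, 0), (79, 0), (80, 0), (69, 0), (70, 0), (67, 0), (65, 0), (66, 0), (67, 1), (69, 0), (70, 1), (72, 0),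
  (73, 0), (74, 1), (76, 0), (77, 0), (72, 0), (61, 0), (62, 0), (59, 1), (61, 0), (62, 1), (64, 0), (65, 0),
  (57, 1), (59, 0), (60, 0), (61, 0), (62, 1), (64, 0), (65, 1), (67, 0), (68, 0), (69, 0), (70, 1), (72, 1),
  (74, 0), (75, 0), (68, 0), (69, 0), (70, 0), (67, 0), (44, 0), (45, 0), (46, 0), (47, 0), (48, 0), (49, 0),
  (42, 1), (44, 0), (45, 0), (46, 0), (41, 0), (42, 1), (44, 0), (40, 0), (38, 1), (40, 1), (42, 0), (43, 0),
  (44, 1), (46, 1), (48, 0), (49, 1), (51, 0), (52, 0), (53, 0), (54, 0), (55, 0), (34, 0), (35, 0), (36, 0),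
  (37, 0), (38, 0), (39, 0), (40, 0), (41, 1), (32, 1), (34, 0), (35, 0), (27, 1), (29, 0), (30, 0), (31, 0),
  (32, 1), (34, 0), (35, 1), (37, 0), (38, 0), (39, 1), (41, 0), (42, 1), (44, 0), (45, 0), (46, 1), (48, 0),
  (49, 1), (51, 0), (52, 0), (53, 0), (54, 0), (55, 1), (57, 0), (58, 0), (59, 0), (60, 0), (61, 0), (62, 1),
  (64, 0), (65, 1), (67, 1), (69, 0), (70, 1), (72, 0), (73, 0), (74, 0), (75, 1), (77, 1), (79, 0), (80, 1),
  (82, 2), (74, 0), (75, 0), (76, 0), (77, 0), (78, 0), (73, 0), (74, 0), (71, 1), (73, 0), (74, 1), (76, 0),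
  (77, 0), (78, 1), (80, 0), (81, 2), (80, 2), (76, 0), (77, 0), (78, 0), (79, 2), (73, 0), (74, 0), (75, 0),
  (76, 0), (77, 0), (78, 2), (74, 0), (75, 0), (73, 0), (63, 0), (64, 0), (62, 0), (60, 1), (62, 1), (64, 1),
  (66, 0), (67, 0), (68, 0), (69, 0), (70, 0), (71, 0), (72, 0), (73, 1), (75, 1), (77, 2), (72, 0), (73, 0),
  (74, 0), (75, 0), (68, 0), (67, 0), (68, 1), (70, 0), (71, 0), (72, 0), (59, 0), (60, 0), (61, 0), (62, 0),
  (63, 0), (64, 0), (65, 1), (67, 0), (68, 1), (64, 0), (65, 0), (66, 0), (62, 0), (57, 1), (59, 0), (60, 0),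
  (61, 0), (62, 1), (64, 0), (59, 0), (60, 0), (56, 0), (57, 1), (59, 0), (60, 1), (62, 0), (63, 0), (64, 1),
  (66, 1), (68, 0), (69, 1), (71, 0), (72, 1), (74, 0), (75, 1), (77, 2), (74, 0), (75, 0), (73, 0), (52, 0),
  (51, 0), (52, 1), (54, 0), (55, 0), (56, 0), (57, 0), (58, 0), (53, 0), (54, 0), (50, 0), (51, 0), (52, 0),
  (47, 0), (48, 0), (40, 1), (42, 0), (43, 0), (44, 0), (45, 0), (46, 0), (47, 0), (48, 1), (50, 0), (51, 0),
  (52, 1), (54, 1), (56, 0), (57, 0), (58, 1), (60, 0), (61, 0), (62, 0), (63, 0), (47, 0), (48, 0), (49, 0),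
  (46, 0), (47, 0), (48, 0), (49, 1), (39, 0), (40, 1), (42, 0), (43, 0), (44, 1), (46, 0), (47, 0), (38, 0),
  (39, 0), (40, 1), (42, 1), (44, 0), (45, 0), (46, 0), (47, 1), (49, 0), (50, 1), (52, 0), (53, 0), (54, 1),
  (56, 0), (57, 0), (58, 1), (60, 0), (61, 0), (52, 0), (41, 0), (37, 0), (38, 0), (39, 1), (41, 1), (43, 0),
  (44, 0), (34, 0), (35, 0), (36, 0), (37, 0), (38, 0), (39, 0), (33, 0), (31, 1), (33, 1), (35, 0), (36, 0),
  (34, 0), (32, 0), (26, 0), (27, 0), (28, 0), (29, 0), (30, 0), (31, 0), (32, 1), (34, 1), (36, 1), (38, 0),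
  (39, 1), (41, 0), (42, 0), (43, 0), (44, 1), (35, 0), (31, 0), (32, 0), (33, 1), (35, 1), (37, 0), (38, 0),
  (39, 0), (40, 1), (42, 0), (23, 0), (24, 0), (25, 0), (26, 0), (27, 1), (21, 1), (23, 0), (24, 0), (25, 1),
  (27, 0), (28, 1), (30, 0), (31, 0), (23, 0), (11, 0), (12, 0), (13, 0), (14, 0), (15, 0), (16, 0), (17, 0),
  (18, 1), (20, 0), (21, 1), (23, 1), (25, 0), (26, 0), (27, 0), (28, 1), (30, 0), (31, 1), (33, 0), (34, 0),
  (35, 1), (37, 0), (38, 1), (40, 0), (41, 0), (42, 1), (44, 0), (45, 1), (47, 0), (48, 0), (49, 0), (50, 1),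
  (52, 1), (54, 0), (55, 0), (56, 0), (57, 0), (58, 1), (60, 0), (61, 1), (63, 1), (65, 0), (66, 0), (67, 0),
  (68, 0), (69, 0), (70, 0), (71, 1)]

/-- Moves. -/
def spiderMv2 : List (ℕ × ℕ) := [(73, 1), (75, 1), (77, 2), (76, 0), (77, 2), (74, 0), (75, 0), (76, 0), (77, 0), (78, 1), (80, 0), (81, 2),
  (70, 0), (71, 0), (72, 0), (73, 1), (75, 0), (76, 0), (69, 0), (70, 0), (71, 1), (73, 0), (66, 1), (68, 0),
  (69, 0), (64, 0), (65, 0), (66, 1), (68, 0), (69, 1), (71, 0), (72, 0), (73, 1), (75, 0), (76, 1), (78, 0),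
  (79, 0), (80, 2), (72, 0), (73, 0), (74, 0), (70, 1), (72, 0), (73, 0), (74, 1), (76, 0), (77, 0), (78, 0),
  (79, 2), (78, 0), (79, 0), (80, 0), (81, 0), (76, 1), (78, 0), (79, 0), (60, 0), (61, 0), (62, 0), (63, 0),
  (59, 0), (57, 1), (59, 1), (61, 0), (62, 0), (63, 1), (65, 0), (66, 0), (67, 0), (60, 0), (47, 1), (49, 0),
  (50, 0), (51, 0), (52, 0), (53, 1), (55, 0), (46, 0), (47, 1), (49, 0), (50, 0), (51, 1), (53, 0), (54, 0),
  (55, 1), (57, 0), (58, 0), (59, 0), (60, 1), (62, 0), (63, 1), (65, 0), (66, 0), (67, 1), (69, 0), (70, 0),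
  (71, 1), (73, 0), (74, 0), (75, 0), (76, 1), (78, 0), (79, 1), (81, 1), (83, 2), (80, 0), (66, 0), (67, 0),
  (68, 0), (69, 0), (70, 0), (71, 0), (72, 0), (73, 0), (65, 0), (66, 0), (67, 0), (64, 0), (62, 1), (64, 1),
  (61, 0), (62, 0), (58, 0), (59, 1), (61, 0), (62, 1), (64, 0), (65, 1), (67, 1), (69, 0), (70, 0), (71, 0),
  (72, 0), (73, 1), (75, 0), (76, 0), (77, 0), (78, 1), (80, 1), (82, 2), (77, 0), (78, 0), (79, 0), (80, 0),
  (81, 0), (82, 0), (83, 0), (76, 0), (77, 0), (74, 1), (76, 0), (77, 1), (79, 0), (80, 0), (81, 0), (73, 0),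
  (74, 1), (76, 0), (77, 1), (63, 1), (65, 0), (66, 0), (67, 1), (69, 0), (70, 0), (71, 1), (73, 0), (74, 0),
  (75, 0), (62, 0), (63, 1), (65, 1), (67, 0), (68, 0), (69, 0), (70, 0), (71, 1), (73, 0), (60, 1), (62, 0),
  (63, 0), (64, 0), (65, 0), (66, 1), (68, 0), (69, 0), (59, 0), (60, 1), (62, 0), (63, 0), (64, 1), (66, 0),
  (67, 0), (62, 0), (54, 0), (55, 0), (56, 1), (58, 0), (59, 0), (60, 1), (62, 1), (64, 0), (65, 0), (52, 1),
  (54, 0), (55, 0), (56, 0), (57, 0), (58, 0), (59, 0), (60, 0), (51, 0), (52, 1), (54, 0), (55, 0), (56, 0),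
  (57, 0), (49, 0), (50, 0), (51, 0), (52, 1), (54, 0), (55, 0), (49, 0), (50, 0), (48, 0), (46, 1), (48, 1),
  (50, 1), (52, 0), (53, 0), (41, 0), (42, 0), (43, 0), (44, 0), (45, 0), (46, 0), (47, 0), (48, 0), (39, 1),
  (41, 0), (42, 0), (43, 0), (44, 0), (45, 0), (38, 0), (39, 1), (41, 0), (37, 0), (38, 0), (39, 1), (41, 1),
  (36, 0), (34, 1), (36, 1), (38, 0), (39, 0), (32, 1), (34, 0), (35, 0), (36, 1), (38, 0), (39, 1), (41, 0),
  (42, 1), (44, 0), (45, 1), (47, 0), (48, 1), (50, 0), (51, 0), (52, 0), (53, 1), (55, 1), (57, 1), (59, 0),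
  (60, 1), (62, 0), (63, 0), (64, 0), (65, 1), (67, 1), (69, 1), (71, 0), (72, 0), (73, 1), (75, 1), (77, 0),
  (78, 1), (80, 0), (81, 1), (83, 1), (85, 2), (82, 0), (64, 0), (65, 0), (66, 0), (67, 0), (63, 0), (64, 0),
  (61, 1), (63, 0), (64, 1), (66, 0), (67, 1), (69, 0), (70, 0), (71, 0), (72, 0), (60, 0), (61, 1), (63, 0),
  (64, 1), (66, 0), (67, 1), (69, 0), (70, 0), (58, 1), (60, 0), (61, 0), (62, 0), (57, 0), (58, 1), (60, 0),
  (56, 0), (38, 0), (39, 0), (37, 0), (35, 1), (37, 1), (39, 1), (41, 0), (42, 0), (43, 0), (44, 0), (45, 0),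
  (46, 0), (47, 0), (48, 0), (49, 0), (50, 1), (52, 0), (53, 0), (54, 1), (56, 1), (58, 0), (59, 0), (60, 1),
  (62, 1), (64, 0), (65, 0), (66, 0), (67, 1), (69, 0), (70, 1), (72, 1), (74, 0), (75, 0), (76, 0), (77, 0),
  (78, 0), (79, 0), (80, 1), (82, 1), (84, 2), (75, 1), (77, 0), (78, 0), (79, 0), (80, 0), (74, 0), (75, 1),
  (77, 0), (73, 0), (71, 0), (51, 0), (52, 0), (53, 0), (50, 0), (51, 0), (48, 1), (50, 0), (51, 1), (53, 1),
  (55, 0), (56, 0), (57, 0), (58, 0), (59, 0), (60, 0), (54, 0), (52, 0), (47, 0), (48, 1), (50, 0), (51, 0),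
  (52, 1), (54, 1), (56, 0), (57, 0)]

/-- Moves. -/
def spiderMv3 : List (ℕ × ℕ) := [(45, 1), (47, 0), (48, 0), (49, 0), (50, 0), (44, 0), (45, 1), (47, 0), (38, 0), (39, 1), (41, 0), (42, 0),
  (43, 0), (36, 0), (37, 0), (38, 0), (39, 1), (41, 0), (25, 1), (27, 0), (28, 0), (29, 0), (24, 0), (25, 1),
  (27, 0), (28, 0), (29, 1), (31, 0), (32, 0), (33, 0), (34, 0), (35, 0), (36, 0), (37, 0), (38, 0), (39, 1),
  (41, 1), (43, 1), (45, 0), (46, 0), (47, 1), (49, 0), (50, 1), (52, 0), (53, 0), (54, 1), (56, 0), (57, 1),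
  (59, 0), (60, 1), (62, 0), (63, 0), (64, 0), (65, 0), (66, 0), (67, 1), (69, 0), (70, 0), (71, 1), (73, 1),
  (75, 0), (76, 0), (77, 1), (79, 0), (80, 1), (82, 0), (83, 2), (68, 0), (69, 0), (70, 0), (67, 0), (68, 0),
  (65, 1), (67, 0), (68, 1), (70, 1), (72, 0), (73, 0), (74, 0), (75, 0), (76, 0), (77, 0), (78, 0), (71, 0),
  (69, 0), (64, 0), (65, 1), (67, 0), (68, 0), (69, 1), (71, 1), (73, 0), (74, 0), (62, 1), (64, 0), (65, 0),
  (66, 0), (67, 0), (59, 0), (60, 0), (61, 0), (62, 1), (64, 0), (60, 0), (58, 0), (40, 0), (38, 1), (40, 1),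
  (42, 0), (43, 0), (44, 0), (45, 0), (46, 0), (47, 0), (48, 0), (41, 0), (39, 0), (37, 0), (38, 0), (39, 1),
  (41, 1), (43, 0), (44, 0), (32, 1), (34, 0), (35, 0), (36, 0), (37, 0), (31, 0), (32, 1), (34, 0), (30, 0),
  (23, 0), (24, 0), (25, 1), (27, 0), (28, 0), (16, 0), (17, 0), (18, 0), (19, 0), (20, 0), (21, 0), (22, 0),
  (23, 0), (24, 0), (25, 1), (27, 0), (28, 1), (30, 1), (32, 0), (33, 0), (34, 1), (36, 0), (37, 1), (39, 0),
  (40, 0), (41, 1), (43, 0), (44, 1), (46, 0), (47, 0), (48, 1), (50, 0), (51, 0), (52, 0), (53, 0), (54, 1),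
  (56, 0), (57, 0), (58, 1), (60, 1), (62, 0), (63, 0), (64, 1), (66, 0), (67, 1), (69, 0), (70, 0), (71, 1),
  (73, 0), (74, 1), (76, 0), (77, 0), (78, 1), (80, 0), (81, 0), (82, 2), (63, 0), (64, 0), (65, 0), (66, 0),
  (67, 0), (61, 1), (63, 0), (64, 0), (65, 0), (60, 0), (61, 1), (63, 0), (59, 0), (51, 0), (33, 0), (34, 0),
  (35, 0), (36, 0), (37, 0), (31, 1), (33, 0), (34, 0), (35, 0), (30, 0), (31, 1), (33, 0), (29, 0), (21, 0),
  (22, 0), (20, 0), (13, 0), (14, 0), (15, 0), (16, 0), (17, 0), (18, 1), (20, 1), (22, 1), (24, 0), (25, 0),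
  (26, 0), (27, 1), (29, 1), (31, 0), (32, 0), (33, 1), (35, 1), (37, 1), (39, 0), (40, 0), (41, 0), (42, 0),
  (43, 0), (44, 0), (45, 1), (47, 0), (48, 0), (49, 1), (51, 1), (53, 0), (54, 0), (55, 0), (56, 0), (57, 1),
  (59, 1), (61, 0), (62, 0), (63, 1), (65, 1), (67, 1), (69, 0), (70, 0), (71, 0), (72, 0), (73, 0), (74, 0),
  (75, 1), (77, 0), (78, 0), (79, 1), (81, 2), (72, 0), (73, 0), (74, 0), (75, 0), (76, 0), (77, 0), (78, 0),
  (79, 0), (71, 0), (69, 1), (71, 1), (73, 0), (74, 0), (75, 0), (76, 0), (66, 0), (67, 1), (69, 0), (70, 0),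
  (71, 1), (73, 0), (74, 0), (69, 0), (64, 0), (65, 0), (66, 0), (67, 1), (69, 1), (71, 0), (72, 0), (62, 0),
  (63, 0), (64, 0), (65, 0), (66, 0), (67, 0), (60, 1), (62, 0), (63, 0), (64, 0), (58, 0), (59, 0), (60, 1),
  (62, 0), (42, 0), (43, 0), (44, 0), (45, 0), (46, 0), (47, 0), (48, 0), (49, 0), (41, 0), (39, 1), (41, 1),
  (43, 0), (44, 0), (45, 0), (46, 0), (36, 0), (37, 1), (39, 0), (40, 0), (41, 1), (43, 0), (44, 0), (39, 0),
  (34, 0), (35, 0), (36, 0), (37, 1), (39, 1), (41, 0), (42, 0), (32, 0), (33, 0), (34, 0), (35, 0), (36, 0),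
  (37, 0), (30, 1), (32, 0), (33, 0), (34, 0), (28, 0), (29, 0), (30, 1), (32, 0), (17, 0), (18, 0), (19, 0),
  (20, 0), (16, 0), (17, 0), (11, 1), (13, 0), (14, 1), (16, 0), (17, 1), (19, 0), (20, 1), (22, 0), (23, 0),
  (24, 0), (25, 0), (26, 0), (27, 0), (28, 0), (29, 0), (30, 1), (32, 1), (34, 1), (36, 0), (37, 1), (39, 0),
  (40, 0), (41, 0), (42, 1), (44, 1), (46, 1), (48, 0), (49, 1), (51, 0), (52, 0), (53, 0), (54, 0), (55, 0),
  (56, 0), (57, 0), (58, 0), (59, 0)]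

/-- Moves. -/
def spiderMv4 : List (ℕ × ℕ) := [(60, 1), (62, 1), (64, 1), (66, 0), (67, 1), (69, 0), (70, 0), (71, 0), (72, 1), (74, 1), (76, 1), (78, 0),
  (79, 1), (81, 2), (78, 0), (79, 0), (80, 1), (82, 0), (83, 2), (77, 0), (78, 1), (80, 0), (81, 0), (82, 0),
  (83, 0), (84, 1), (86, 0), (87, 2), (71, 0), (72, 0), (73, 0), (74, 0), (75, 0), (76, 0), (77, 0), (78, 0),
  (79, 1), (81, 0), (82, 0), (70, 0), (71, 0), (68, 1), (70, 0), (71, 1), (73, 0), (74, 0), (75, 0), (76, 0),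
  (77, 1), (79, 0), (73, 0), (74, 0), (75, 0), (66, 0), (65, 0), (66, 1), (68, 0), (69, 0), (70, 0), (71, 1),
  (73, 0), (53, 0), (54, 0), (55, 0), (52, 0), (53, 0), (48, 0), (49, 0), (50, 1), (52, 0), (53, 1), (55, 1),
  (57, 0), (58, 0), (59, 0), (60, 0), (61, 0), (62, 0), (63, 0), (64, 0), (56, 0), (54, 0), (41, 0), (42, 0),
  (43, 0), (44, 0), (45, 0), (46, 0), (47, 0), (48, 0), (49, 0), (50, 1), (52, 0), (53, 0), (54, 1), (56, 1),
  (58, 0), (59, 0), (46, 0), (47, 1), (49, 0), (50, 0), (51, 0), (52, 0), (40, 0), (41, 0), (38, 1), (40, 0),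
  (41, 1), (43, 0), (44, 0), (45, 0), (46, 0), (47, 1), (49, 0), (43, 0), (44, 0), (45, 0), (36, 0), (35, 0),
  (36, 1), (38, 0), (39, 0), (40, 0), (41, 1), (43, 0), (24, 0), (25, 0), (23, 0), (22, 0), (23, 1), (25, 1),
  (27, 0), (28, 0), (29, 0), (30, 0), (31, 0), (32, 0), (33, 0), (34, 0), (26, 0), (24, 0), (19, 0), (20, 0),
  (16, 0), (17, 0), (18, 0), (19, 0), (20, 1), (22, 0), (23, 0), (24, 1), (26, 1), (28, 0), (29, 0), (19, 0),
  (20, 0), (21, 0), (22, 0), (17, 0), (15, 0), (16, 0), (17, 1), (19, 0), (12, 1), (14, 0), (15, 0), (10, 0),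
  (11, 0), (12, 1), (14, 0), (15, 1), (17, 0), (18, 0), (19, 1), (21, 0), (22, 1), (24, 0), (25, 0), (26, 1),
  (28, 0), (29, 1), (31, 0), (32, 0), (33, 0), (34, 1), (36, 0), (37, 0), (38, 0), (39, 0), (40, 0), (41, 1),
  (43, 1), (45, 1), (47, 0), (48, 0), (49, 1), (51, 0), (52, 1), (54, 0), (55, 0), (56, 1), (58, 0), (59, 1),
  (61, 0), (62, 0), (63, 0), (64, 1), (66, 0), (67, 0), (68, 0), (69, 0), (70, 0), (71, 1), (73, 1), (75, 1),
  (77, 0), (78, 0), (79, 1), (81, 0), (82, 1), (84, 0), (85, 0), (86, 2), (78, 0), (79, 0), (80, 0), (76, 1),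
  (78, 0), (79, 0), (80, 1), (82, 0), (83, 0), (84, 0), (85, 2), (72, 0), (70, 1), (72, 1), (74, 0), (75, 0),
  (76, 0), (77, 0), (78, 0), (79, 0), (80, 0), (81, 0), (82, 1), (73, 0), (74, 0), (71, 0), (63, 0), (64, 0),
  (65, 0), (66, 1), (68, 0), (69, 0), (70, 0), (71, 1), (68, 0), (69, 0), (62, 0), (63, 0), (64, 1), (66, 0),
  (42, 0), (40, 1), (42, 1), (44, 0), (45, 0), (46, 0), (47, 0), (48, 0), (49, 0), (50, 0), (43, 0), (41, 0),
  (33, 0), (34, 0), (35, 0), (36, 1), (38, 0), (39, 0), (40, 0), (41, 1), (43, 1), (45, 0), (46, 0), (38, 0),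
  (39, 0), (32, 0), (33, 0), (34, 1), (36, 0), (14, 0), (15, 0), (16, 0), (17, 0), (18, 0), (19, 0), (20, 0),
  (13, 0), (11, 1), (13, 1), (15, 0), (16, 0), (9, 1), (11, 0), (12, 0), (13, 1), (15, 0), (16, 1), (18, 0),
  (19, 0), (20, 1), (22, 0), (23, 0), (24, 0), (25, 0), (26, 1), (28, 0), (29, 1), (31, 0), (32, 1), (34, 0),
  (35, 0), (36, 1), (38, 0), (39, 1), (41, 0), (42, 0), (43, 1), (45, 0), (46, 1), (48, 0), (49, 0), (50, 1),
  (52, 0), (53, 0), (54, 0), (55, 0), (56, 1), (58, 0), (59, 1), (61, 0), (62, 1), (64, 0), (65, 0), (66, 1),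
  (68, 0), (69, 1), (71, 0), (72, 1), (74, 1), (76, 0), (77, 0), (78, 0), (79, 0), (80, 1), (82, 0), (83, 1),
  (85, 0), (86, 0), (87, 1), (89, 0), (90, 2), (77, 0), (78, 0), (79, 0), (80, 0), (81, 0), (82, 0), (83, 0),
  (84, 1), (76, 0), (77, 0), (75, 0), (73, 0), (57, 0), (58, 0), (56, 0), (54, 1), (56, 1), (58, 1), (60, 0),
  (61, 0), (62, 0), (63, 0), (64, 0), (65, 0), (66, 0), (67, 0), (59, 0), (60, 0), (57, 0), (58, 0), (55, 0),
  (56, 0), (49, 0), (50, 0), (51, 0)]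

/-- Moves. -/
def spiderMv5 : List (ℕ × ℕ) := [(52, 0), (53, 0), (54, 0), (55, 0), (56, 1), (58, 1), (60, 1), (62, 0), (63, 0), (51, 1), (53, 0), (54, 0),
  (55, 0), (56, 0), (50, 0), (51, 1), (53, 0), (48, 0), (49, 0), (47, 0), (27, 0), (28, 0), (26, 0), (24, 1),
  (26, 1), (28, 1), (30, 0), (31, 0), (32, 0), (33, 0), (34, 0), (35, 0), (36, 0), (37, 0), (29, 0), (30, 0),
  (27, 0), (28, 0), (25, 0), (26, 0), (19, 0), (20, 0), (21, 0), (22, 0), (23, 0), (24, 0), (25, 0), (26, 1),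
  (28, 1), (30, 1), (32, 0), (33, 0), (21, 1), (23, 0), (24, 0), (25, 0), (26, 0), (20, 0), (21, 1), (23, 0),
  (18, 0), (19, 0), (17, 0), (5, 0), (6, 0), (7, 0), (3, 1), (5, 0), (6, 0), (7, 1), (9, 0), (10, 0),
  (11, 0), (12, 0), (13, 1), (15, 0), (16, 0), (17, 1), (19, 1), (21, 0), (22, 0), (23, 1), (25, 0), (26, 1),
  (28, 0), (29, 0), (30, 1), (32, 0), (33, 1), (35, 0), (36, 0), (37, 1), (39, 0), (40, 0), (41, 0), (42, 0),
  (43, 1), (45, 0), (46, 0), (47, 1), (49, 1), (51, 0), (52, 0), (53, 1), (55, 0), (56, 1), (58, 0), (59, 0),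
  (60, 1), (62, 0), (63, 1), (65, 0), (66, 0), (67, 1), (69, 0), (70, 0), (71, 0), (72, 0), (73, 1), (75, 1),
  (77, 1), (79, 0), (80, 0), (81, 0), (82, 1), (84, 0), (85, 1), (87, 0), (88, 0), (89, 0), (90, 0), (91, 2),
  (88, 0), (89, 0), (90, 2), (88, 1), (90, 2), (93, 2), (92, 2), (83, 1), (85, 0), (86, 0), (87, 0), (88, 0),
  (89, 0), (90, 0), (91, 2), (86, 0), (87, 0), (88, 1), (90, 2), (89, 2), (79, 1), (81, 0), (82, 0), (83, 0),
  (84, 0), (85, 0), (86, 0), (87, 0), (88, 2), (87, 2), (86, 2), (85, 2), (84, 2), (83, 2), (82, 2), (81, 2),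
  (80, 2), (79, 2), (78, 2), (76, 0), (77, 2), (74, 0), (75, 0), (76, 2), (69, 1), (71, 0), (72, 0), (73, 1),
  (75, 2), (74, 2), (62, 0), (63, 0), (64, 0), (65, 0), (66, 0), (67, 0), (61, 0), (59, 1), (61, 1), (63, 0),
  (64, 0), (65, 0), (66, 0), (67, 1), (69, 0), (70, 0), (71, 0), (72, 0), (73, 2), (72, 2), (70, 0), (71, 2),
  (64, 0), (65, 0), (66, 0), (67, 0), (68, 0), (69, 0), (70, 2), (65, 0), (66, 0), (67, 1), (69, 2), (68, 2),
  (64, 0), (65, 0), (66, 0), (67, 2), (66, 2), (65, 2), (64, 2), (57, 1), (59, 0), (60, 0), (61, 1), (63, 2),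
  (62, 2), (55, 0), (54, 0), (55, 1), (57, 0), (58, 0), (59, 0), (60, 0), (61, 2), (60, 2), (58, 0), (59, 2),
  (52, 0), (53, 0), (54, 0), (55, 0), (56, 0), (57, 0), (58, 2), (53, 0), (54, 0), (55, 1), (57, 2), (56, 2),
  (44, 0), (45, 0), (46, 0), (43, 0), (44, 0), (41, 1), (43, 0), (44, 1), (46, 1), (48, 0), (49, 0), (50, 0),
  (51, 0), (52, 0), (53, 0), (54, 0), (55, 2), (54, 2), (53, 2), (52, 2), (51, 2), (50, 2), (43, 0), (44, 0),
  (45, 0), (46, 0), (47, 0), (48, 0), (49, 2), (48, 2), (46, 0), (47, 2), (45, 0), (46, 2), (39, 1), (41, 0),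
  (42, 0), (43, 1), (45, 2), (44, 2), (32, 0), (33, 0), (34, 0), (35, 0), (36, 0), (37, 0), (31, 0), (29, 1),
  (31, 1), (33, 0), (34, 0), (35, 0), (36, 0), (37, 1), (39, 0), (40, 0), (41, 0), (42, 0), (43, 2), (42, 2),
  (40, 0), (41, 2), (34, 0), (35, 0), (36, 0), (37, 0), (38, 0), (39, 0), (40, 2), (35, 0), (36, 0), (37, 1),
  (39, 2), (38, 2), (34, 0), (35, 0), (36, 0), (37, 2), (36, 2), (35, 2), (34, 2), (27, 1), (29, 0), (30, 0),
  (31, 1), (33, 2), (32, 2), (25, 0), (24, 0), (25, 1), (27, 0), (28, 0), (29, 0), (30, 0), (31, 2), (30, 2),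
  (28, 0), (29, 2), (22, 0), (23, 0), (24, 0), (25, 0), (26, 0), (27, 0), (28, 2), (23, 0), (24, 0), (25, 1),
  (27, 2), (26, 2), (14, 0), (15, 0), (16, 0), (13, 0), (14, 0), (11, 1), (13, 0), (14, 1), (16, 1), (18, 0),
  (19, 0), (20, 0), (21, 0), (22, 0), (23, 0), (24, 0), (25, 2), (24, 2), (23, 2), (22, 2), (21, 2), (20, 2),
  (13, 0), (14, 0), (15, 0), (16, 0), (17, 0), (18, 0), (19, 2), (18, 2), (16, 0), (17, 2), (15, 0), (16, 2),
  (9, 1), (11, 0), (12, 0), (13, 1)]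

/-- Moves. -/
def spiderMv6 : List (ℕ × ℕ) := [(15, 2), (14, 2), (6, 0), (7, 0), (5, 0), (6, 0), (7, 1), (9, 0), (10, 0), (11, 0), (12, 0), (13, 2),
  (12, 2), (10, 0), (11, 2), (2, 0), (3, 0), (4, 0), (5, 0), (6, 0), (7, 0), (8, 0), (9, 0), (10, 2),
  (5, 0), (6, 0), (7, 1), (9, 2), (8, 2), (4, 0), (5, 0), (6, 0), (7, 2), (6, 2), (5, 2), (4, 2),
  (3, 2), (1, 0), (2, 2), (1, 2), (0, 2)]

/-- The moves for the spider word. -/
def spiderMoves : List (ℕ × ℕ) := spiderMv0 ++ spiderMv1 ++ spiderMv2 ++ spiderMv3 ++ spiderMv4 ++ spiderMv5 ++ spiderMv6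

/-- Moves. -/
def armMv0 : List (ℕ × ℕ) := [(26, 0), (27, 0), (28, 0), (29, 0), (30, 0), (31, 1), (33, 0), (34, 0), (35, 0), (36, 0), (37, 1), (39, 0),
  (33, 0), (34, 0), (35, 0), (25, 0), (26, 0), (27, 0), (28, 0), (29, 1), (31, 0), (32, 0), (33, 0), (20, 0),
  (21, 0), (22, 0), (23, 1), (25, 0), (26, 0), (27, 1), (29, 0), (30, 0), (31, 0), (5, 0), (6, 0), (7, 0),
  (8, 0), (9, 0), (10, 1), (12, 0), (13, 0), (14, 0), (15, 0), (16, 1), (18, 0), (19, 0), (20, 0), (21, 1),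
  (23, 0), (24, 0), (25, 1), (27, 0), (28, 0), (29, 0), (4, 0), (5, 0), (6, 0), (7, 0), (8, 1), (10, 0),
  (4, 0), (5, 0), (6, 0), (3, 0), (4, 0), (2, 0), (0, 1), (2, 1), (4, 1), (6, 1), (8, 0), (9, 0),
  (10, 1), (12, 0), (13, 0), (14, 1), (16, 0), (17, 0), (18, 0), (19, 1), (21, 0), (22, 0), (23, 1), (25, 0),
  (26, 0), (27, 0), (28, 0), (29, 1), (31, 1), (33, 1), (35, 1), (37, 0), (38, 0), (39, 1), (41, 0), (42, 0),
  (43, 1), (45, 0), (46, 0), (47, 0), (48, 0), (49, 1), (51, 0), (52, 0), (53, 0), (54, 0), (55, 1), (57, 0),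
  (58, 0), (59, 0), (60, 0), (61, 0), (62, 2), (28, 0), (29, 0), (30, 0), (31, 0), (32, 0), (33, 0), (34, 0),
  (35, 0), (36, 1), (27, 0), (28, 0), (29, 0), (30, 0), (26, 0), (27, 0), (24, 1), (26, 0), (27, 1), (29, 0),
  (30, 1), (32, 0), (33, 0), (34, 1), (36, 0), (37, 1), (39, 0), (40, 0), (41, 0), (42, 0), (43, 1), (45, 0),
  (39, 0), (40, 0), (41, 0), (38, 0), (39, 0), (32, 0), (22, 0), (23, 0), (24, 0), (25, 0), (21, 0), (20, 0),
  (21, 1), (23, 0), (24, 0), (25, 1), (27, 0), (28, 0), (29, 0), (30, 1), (32, 1), (34, 0), (35, 0), (36, 0),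
  (37, 0), (28, 0), (29, 0), (30, 0), (27, 0), (9, 0), (10, 0), (11, 0), (12, 0), (13, 0), (14, 0), (15, 1),
  (17, 0), (18, 0), (19, 0), (7, 1), (9, 0), (10, 0), (11, 0), (12, 0), (13, 1), (15, 0), (16, 0), (17, 0),
  (18, 0), (19, 1), (21, 0), (22, 0), (23, 0), (24, 0), (25, 1), (27, 1), (29, 0), (30, 1), (32, 0), (33, 0),
  (34, 0), (35, 0), (23, 0), (24, 0), (25, 0), (26, 0), (27, 0), (28, 0), (22, 0), (23, 0), (24, 0), (21, 0),
  (9, 0), (10, 0), (11, 0), (8, 0), (9, 0), (5, 0), (6, 0), (7, 0), (3, 0), (4, 0), (5, 0), (1, 0),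
  (2, 0), (3, 0), (4, 0), (5, 1), (7, 1), (9, 1), (11, 1), (13, 0), (14, 0), (15, 0), (16, 0), (17, 0),
  (18, 0), (19, 1), (21, 1), (23, 0), (24, 1), (26, 0), (27, 0), (28, 1), (30, 0), (31, 0), (32, 0), (33, 0),
  (34, 0), (35, 1), (37, 1), (39, 1), (41, 1), (43, 0), (44, 0), (45, 1), (47, 0), (48, 0), (49, 1), (51, 0),
  (52, 0), (53, 0), (54, 0), (55, 1), (57, 0), (58, 0), (59, 0), (60, 0), (61, 2), (32, 1), (34, 0), (35, 0),
  (36, 0), (37, 0), (38, 0), (39, 0), (40, 0), (41, 0), (42, 1), (33, 0), (34, 0), (35, 0), (36, 0), (31, 0),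
  (32, 0), (33, 0), (30, 0), (29, 0), (30, 1), (32, 0), (33, 1), (35, 0), (36, 1), (38, 0), (39, 0), (40, 1),
  (42, 0), (43, 1), (45, 0), (46, 0), (47, 0), (48, 0), (49, 1), (51, 0), (45, 0), (46, 0), (47, 0), (44, 0),
  (45, 0), (38, 0), (27, 0), (28, 0), (29, 0), (30, 0), (31, 0), (26, 0), (27, 0), (25, 0), (26, 0), (27, 1),
  (29, 0), (30, 0), (31, 1), (33, 0), (34, 0), (35, 0), (36, 1), (38, 1), (40, 0), (41, 0), (42, 0), (43, 0),
  (34, 0), (35, 0), (36, 0), (33, 0), (23, 0), (24, 0), (14, 0), (15, 0), (16, 0), (13, 0), (14, 0), (15, 0),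
  (16, 1), (18, 0), (19, 0), (20, 0), (21, 0), (22, 0), (23, 0), (24, 1), (21, 0), (22, 0), (12, 0), (13, 0),
  (14, 0), (15, 0), (16, 1), (18, 0), (19, 0), (20, 0), (21, 0), (22, 1), (24, 0), (25, 1), (27, 0), (28, 0),
  (29, 0), (30, 0), (31, 1), (33, 1), (35, 0), (36, 1), (38, 0), (39, 0), (40, 0), (41, 0), (29, 0), (30, 0),
  (31, 0), (32, 0), (33, 0), (34, 0), (28, 0), (29, 0), (30, 0), (27, 0), (18, 0), (19, 0), (20, 0), (10, 0),
  (11, 0), (8, 0), (9, 0), (6, 0)]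

/-- Moves. -/
def armMv1 : List (ℕ × ℕ) := [(7, 0), (8, 0), (9, 1), (11, 1), (13, 0), (14, 0), (15, 0), (16, 1), (18, 0), (19, 0), (20, 1), (22, 0),
  (23, 0), (24, 0), (25, 1), (27, 1), (29, 0), (30, 1), (32, 0), (33, 0), (34, 1), (36, 0), (37, 0), (38, 0),
  (39, 0), (40, 0), (41, 1), (43, 1), (45, 1), (47, 1), (49, 0), (50, 0), (51, 1), (53, 0), (54, 0), (55, 1),
  (57, 0), (58, 0), (59, 0), (60, 2), (38, 1), (40, 0), (41, 0), (42, 0), (43, 0), (44, 0), (45, 0), (46, 0),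
  (47, 0), (48, 1), (39, 0), (40, 0), (41, 0), (42, 0), (37, 0), (38, 0), (39, 0), (36, 0), (35, 0), (36, 1),
  (38, 0), (39, 1), (41, 0), (42, 1), (44, 0), (45, 0), (46, 1), (48, 0), (49, 1), (51, 0), (52, 0), (53, 0),
  (54, 0), (55, 1), (57, 0), (51, 0), (52, 0), (53, 0), (50, 0), (51, 0), (44, 0), (33, 0), (34, 0), (35, 0),
  (36, 0), (37, 0), (32, 0), (33, 0), (31, 0), (32, 0), (33, 1), (35, 0), (36, 0), (37, 1), (39, 0), (40, 0),
  (41, 0), (42, 1), (44, 1), (46, 0), (47, 0), (48, 0), (49, 0), (40, 0), (41, 0), (42, 0), (39, 0), (29, 0),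
  (30, 0), (22, 1), (24, 0), (25, 0), (26, 0), (27, 0), (28, 0), (29, 0), (30, 1), (27, 0), (28, 0), (21, 0),
  (22, 1), (24, 0), (25, 0), (26, 0), (27, 0), (28, 1), (30, 0), (31, 1), (33, 0), (34, 0), (35, 0), (36, 0),
  (37, 1), (39, 1), (41, 0), (42, 1), (44, 0), (45, 0), (46, 0), (47, 0), (35, 0), (36, 0), (37, 0), (38, 0),
  (39, 0), (40, 0), (34, 0), (35, 0), (36, 0), (33, 0), (24, 0), (25, 0), (26, 0), (10, 0), (11, 1), (13, 0),
  (14, 0), (15, 0), (16, 1), (18, 0), (19, 0), (20, 0), (21, 0), (22, 1), (24, 0), (25, 0), (26, 1), (28, 0),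
  (29, 0), (30, 0), (31, 1), (33, 1), (35, 0), (36, 1), (38, 0), (39, 0), (40, 1), (42, 0), (43, 0), (44, 0),
  (45, 0), (46, 0), (47, 1), (49, 1), (51, 1), (53, 1), (55, 0), (56, 0), (57, 1), (59, 2), (44, 1), (46, 0),
  (47, 0), (48, 0), (49, 0), (50, 0), (51, 0), (52, 0), (53, 0), (54, 1), (45, 0), (46, 0), (47, 0), (48, 0),
  (43, 0), (44, 0), (45, 0), (42, 0), (41, 0), (42, 1), (44, 0), (45, 1), (47, 0), (48, 1), (50, 0), (51, 0),
  (52, 1), (54, 0), (55, 1), (57, 0), (58, 2), (53, 1), (55, 0), (56, 0), (57, 2), (56, 2), (44, 0), (45, 0),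
  (43, 0), (32, 0), (12, 0), (13, 0), (14, 0), (15, 0), (16, 1), (18, 0), (19, 0), (20, 0), (21, 0), (22, 1),
  (24, 0), (25, 0), (11, 0), (12, 0), (13, 0), (14, 1), (16, 0), (17, 0), (18, 0), (19, 0), (20, 1), (22, 0),
  (23, 0), (17, 0), (18, 0), (10, 0), (11, 0), (12, 1), (14, 0), (15, 0), (16, 0), (3, 0), (4, 0), (5, 0),
  (6, 1), (8, 0), (9, 0), (10, 1), (12, 0), (13, 0), (14, 0), (3, 0), (4, 0), (2, 0), (0, 1), (2, 1),
  (4, 1), (6, 0), (7, 0), (8, 1), (10, 0), (11, 0), (12, 0), (13, 0), (14, 1), (16, 1), (18, 1), (20, 0),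
  (21, 0), (22, 0), (23, 1), (25, 1), (27, 0), (28, 0), (29, 0), (30, 1), (32, 1), (34, 0), (35, 0), (36, 0),
  (37, 1), (39, 0), (40, 0), (41, 1), (43, 1), (45, 1), (47, 0), (48, 0), (49, 0), (50, 0), (51, 0), (52, 0),
  (53, 0), (54, 0), (55, 2), (46, 0), (47, 0), (44, 0), (45, 0), (42, 0), (43, 0), (34, 0), (35, 0), (33, 0),
  (31, 0), (13, 0), (14, 0), (15, 0), (16, 0), (17, 0), (18, 0), (19, 0), (20, 1), (22, 0), (23, 0), (12, 0),
  (13, 0), (14, 0), (15, 0), (16, 0), (17, 0), (18, 1), (20, 0), (11, 0), (12, 0), (9, 1), (11, 0), (12, 1),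
  (14, 0), (15, 0), (16, 1), (18, 0), (19, 0), (20, 1), (22, 0), (23, 1), (25, 0), (26, 0), (27, 0), (28, 0),
  (29, 0), (30, 0), (31, 1), (33, 1), (35, 1), (37, 0), (38, 0), (26, 1), (28, 0), (29, 0), (30, 0), (31, 0),
  (32, 0), (33, 0), (25, 0), (26, 1), (28, 0), (29, 0), (30, 0), (22, 0), (23, 0), (24, 0), (25, 0), (26, 1),
  (23, 0), (24, 0), (21, 0), (22, 0), (14, 0), (6, 0), (7, 0), (5, 0), (6, 0), (7, 1), (9, 0), (10, 0),
  (11, 0), (12, 1), (14, 1), (16, 0)]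

/-- Moves. -/
def armMv2 : List (ℕ × ℕ) := [(17, 0), (18, 0), (19, 0), (20, 0), (10, 0), (11, 0), (12, 0), (9, 0), (3, 0), (1, 0), (2, 0), (3, 1),
  (5, 0), (6, 0), (7, 1), (9, 1), (11, 0), (12, 1), (14, 0), (15, 0), (16, 0), (17, 0), (18, 0), (19, 0),
  (20, 1), (22, 1), (24, 1), (26, 0), (27, 1), (29, 0), (30, 1), (32, 0), (33, 1), (35, 0), (36, 0), (37, 0),
  (38, 1), (40, 0), (41, 0), (42, 0), (43, 1), (45, 1), (47, 1), (49, 0), (50, 0), (51, 0), (52, 0), (53, 0),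
  (54, 2), (48, 0), (46, 0), (36, 0), (37, 0), (38, 0), (39, 0), (40, 0), (41, 0), (35, 0), (34, 0), (35, 1),
  (37, 0), (32, 0), (33, 0), (31, 0), (32, 0), (33, 1), (35, 0), (36, 0), (37, 1), (39, 0), (40, 0), (41, 1),
  (43, 0), (44, 0), (45, 0), (46, 1), (48, 1), (50, 0), (51, 0), (49, 0), (43, 0), (44, 0), (29, 0), (30, 0),
  (17, 0), (15, 1), (17, 1), (19, 0), (20, 0), (21, 0), (22, 0), (23, 0), (24, 0), (25, 0), (26, 0), (27, 0),
  (28, 0), (29, 0), (30, 1), (27, 0), (28, 0), (18, 0), (19, 0), (20, 0), (21, 0), (16, 0), (17, 0), (18, 0),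
  (14, 0), (15, 0), (13, 0), (14, 0), (15, 1), (17, 0), (18, 1), (20, 0), (21, 1), (23, 0), (24, 0), (25, 0),
  (26, 0), (27, 0), (28, 1), (30, 0), (31, 1), (33, 0), (34, 0), (35, 0), (36, 0), (37, 1), (39, 0), (40, 0),
  (41, 1), (43, 0), (44, 1), (46, 0), (47, 0), (35, 0), (36, 0), (37, 0), (38, 0), (39, 0), (40, 0), (41, 0),
  (42, 0), (33, 1), (35, 0), (36, 0), (37, 0), (38, 0), (32, 0), (33, 1), (35, 0), (36, 0), (23, 1), (25, 0),
  (26, 0), (27, 0), (28, 0), (29, 0), (30, 0), (31, 0), (20, 0), (21, 0), (22, 0), (23, 1), (25, 0), (21, 0),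
  (19, 0), (11, 0), (12, 0), (13, 0), (10, 0), (11, 0), (12, 0), (13, 1), (15, 0), (16, 0), (17, 0), (18, 0),
  (19, 1), (21, 1), (23, 0), (24, 0), (25, 1), (27, 0), (28, 0), (29, 0), (16, 0), (17, 0), (18, 0), (19, 0),
  (20, 0), (21, 0), (22, 1), (15, 0), (16, 0), (8, 0), (9, 0), (4, 0), (5, 0), (6, 0), (7, 0), (8, 0),
  (9, 1), (11, 0), (12, 0), (13, 1), (15, 0), (16, 1), (18, 0), (19, 0), (20, 1), (22, 0), (23, 1), (25, 0),
  (26, 0), (27, 0), (28, 0), (29, 1), (31, 1), (33, 0), (34, 0), (35, 0), (36, 1), (38, 1), (40, 0), (41, 0),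
  (42, 1), (44, 0), (45, 0), (46, 0), (47, 1), (49, 1), (51, 1), (53, 2), (52, 2), (50, 0), (51, 2), (48, 0),
  (49, 0), (50, 2), (45, 0), (46, 0), (26, 1), (28, 0), (29, 0), (30, 0), (31, 0), (32, 0), (33, 1), (35, 0),
  (36, 0), (37, 0), (38, 0), (39, 1), (41, 0), (42, 0), (43, 1), (27, 0), (28, 0), (29, 0), (30, 0), (31, 1),
  (33, 0), (25, 0), (24, 0), (25, 1), (27, 0), (28, 0), (29, 1), (31, 0), (32, 0), (33, 1), (35, 0), (36, 0),
  (37, 1), (39, 0), (40, 0), (41, 1), (43, 0), (44, 1), (46, 1), (48, 0), (49, 2), (32, 0), (33, 0), (34, 0),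
  (35, 0), (36, 0), (37, 0), (30, 1), (32, 0), (33, 0), (34, 0), (35, 0), (29, 0), (30, 1), (32, 0), (33, 0),
  (28, 0), (29, 0), (30, 1), (27, 0), (28, 0), (26, 0), (15, 0), (16, 0), (17, 0), (14, 0), (4, 0), (5, 0),
  (6, 1), (8, 0), (9, 0), (10, 0), (11, 0), (12, 1), (14, 1), (16, 0), (17, 1), (19, 0), (20, 0), (21, 0),
  (22, 0), (10, 0), (11, 0), (12, 0), (13, 0), (14, 0), (15, 0), (9, 0), (10, 0), (11, 0), (8, 0), (2, 0),
  (3, 0), (4, 1), (6, 0), (0, 1), (2, 1), (4, 0), (5, 0), (6, 1), (8, 1), (10, 0), (11, 1), (13, 0),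
  (14, 0), (15, 1), (17, 0), (18, 0), (19, 0), (20, 0), (21, 0), (22, 1), (24, 1), (26, 1), (28, 1), (30, 0),
  (31, 1), (33, 1), (35, 1), (37, 1), (39, 0), (40, 0), (41, 0), (42, 0), (43, 0), (44, 0), (45, 0), (46, 0),
  (47, 0), (48, 2), (38, 0), (39, 0), (40, 0), (36, 0), (37, 0), (38, 0), (34, 0), (35, 0), (36, 0), (32, 0),
  (33, 0), (34, 0), (19, 1), (21, 0), (22, 0), (23, 0), (24, 0), (25, 0), (26, 0), (20, 0), (21, 0), (22, 0),
  (23, 0), (18, 0), (19, 0), (20, 0)]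

/-- Moves. -/
def armMv3 : List (ℕ × ℕ) := [(17, 0), (16, 0), (17, 1), (19, 0), (20, 1), (22, 0), (23, 1), (25, 0), (26, 1), (28, 0), (29, 0), (30, 0),
  (31, 0), (32, 0), (33, 0), (34, 1), (36, 1), (38, 1), (40, 1), (42, 0), (43, 0), (44, 0), (45, 0), (39, 0),
  (40, 1), (42, 0), (43, 0), (37, 0), (38, 0), (39, 0), (40, 1), (28, 1), (30, 0), (31, 0), (32, 0), (33, 0),
  (34, 0), (25, 0), (26, 0), (27, 0), (28, 1), (30, 0), (31, 0), (26, 0), (24, 0), (14, 0), (15, 0), (16, 0),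
  (17, 0), (18, 0), (13, 0), (14, 0), (12, 0), (13, 0), (14, 1), (16, 0), (17, 0), (18, 1), (20, 0), (21, 0),
  (22, 0), (23, 0), (24, 1), (26, 1), (28, 0), (29, 0), (30, 0), (31, 1), (33, 0), (34, 1), (36, 0), (37, 0),
  (38, 0), (21, 0), (22, 0), (23, 0), (24, 0), (25, 0), (26, 0), (27, 1), (29, 0), (20, 0), (21, 0), (10, 0),
  (11, 0), (5, 0), (6, 0), (7, 0), (8, 0), (9, 0), (10, 0), (11, 1), (8, 0), (9, 0), (3, 1), (5, 0),
  (6, 0), (7, 0), (8, 0), (9, 1), (11, 0), (12, 1), (14, 0), (15, 0), (16, 0), (17, 0), (18, 1), (20, 0),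
  (21, 1), (23, 0), (24, 0), (25, 1), (27, 0), (28, 0), (29, 1), (31, 0), (32, 0), (33, 0), (34, 1), (36, 0),
  (16, 0), (17, 0), (18, 0), (19, 0), (20, 0), (21, 0), (22, 0), (23, 0), (24, 0), (25, 0), (26, 1), (15, 0),
  (16, 0), (17, 0), (18, 0), (14, 0), (5, 0), (6, 0), (7, 0), (1, 0), (2, 0), (3, 1), (5, 0), (6, 0),
  (7, 1), (9, 0), (10, 0), (11, 0), (12, 1), (14, 1), (16, 0), (17, 0), (18, 1), (20, 0), (21, 0), (22, 0),
  (23, 0), (24, 1), (26, 0), (27, 1), (29, 0), (30, 0), (31, 0), (32, 0), (33, 0), (34, 1), (36, 1), (38, 1),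
  (40, 0), (41, 1), (43, 1), (45, 1), (47, 2), (46, 2), (44, 0), (45, 2), (39, 1), (41, 0), (42, 0), (43, 0),
  (44, 2), (31, 0), (32, 0), (33, 0), (34, 0), (35, 0), (36, 0), (37, 0), (30, 0), (21, 0), (9, 1), (11, 0),
  (12, 0), (13, 0), (14, 0), (15, 1), (17, 0), (18, 0), (19, 1), (21, 1), (23, 0), (24, 0), (25, 0), (26, 0),
  (27, 0), (28, 1), (30, 1), (32, 0), (33, 0), (8, 0), (9, 1), (11, 0), (12, 0), (13, 1), (15, 0), (16, 0),
  (17, 1), (19, 0), (20, 0), (21, 1), (23, 0), (24, 0), (25, 0), (26, 1), (28, 0), (29, 0), (30, 1), (32, 0),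
  (33, 1), (35, 0), (36, 0), (37, 1), (39, 0), (40, 0), (41, 0), (42, 0), (43, 2), (40, 0), (41, 0), (42, 2),
  (23, 1), (25, 0), (26, 0), (27, 0), (28, 0), (29, 0), (30, 0), (22, 0), (23, 1), (25, 0), (26, 0), (27, 0),
  (28, 0), (21, 0), (22, 0), (23, 1), (25, 0), (26, 0), (20, 0), (21, 0), (22, 0), (23, 1), (19, 0), (20, 0),
  (21, 0), (18, 0), (19, 0), (17, 0), (6, 0), (7, 0), (8, 0), (9, 0), (10, 0), (11, 0), (12, 0), (13, 0),
  (14, 0), (15, 1), (17, 1), (19, 1), (21, 1), (23, 0), (24, 1), (26, 1), (28, 1), (30, 1), (32, 0), (33, 0),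
  (34, 0), (35, 0), (36, 0), (37, 0), (38, 0), (39, 0), (31, 0), (32, 0), (29, 0), (30, 0), (27, 0), (28, 0),
  (25, 0), (26, 0), (27, 0), (28, 1), (30, 1), (32, 1), (34, 0), (35, 0), (36, 0), (37, 0), (33, 0), (34, 0),
  (35, 0), (31, 0), (22, 1), (24, 0), (25, 0), (26, 0), (20, 0), (21, 0), (22, 1), (24, 0), (25, 0), (26, 1),
  (28, 0), (29, 0), (30, 0), (31, 1), (33, 0), (28, 0), (29, 0), (18, 0), (19, 0), (20, 0), (21, 0), (22, 1),
  (24, 0), (25, 0), (26, 1), (28, 0), (29, 1), (31, 0), (14, 0), (15, 0), (16, 0), (17, 0), (13, 0), (14, 0),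
  (15, 0), (12, 0), (13, 0), (5, 0), (6, 0), (7, 0), (8, 0), (9, 0), (10, 1), (12, 0), (13, 1), (15, 1),
  (17, 1), (19, 0), (20, 0), (21, 0), (22, 0), (23, 0), (24, 0), (25, 0), (26, 0), (27, 0), (18, 0), (16, 0),
  (9, 0), (10, 0), (11, 0), (4, 0), (5, 0), (6, 0), (7, 1), (9, 0), (10, 0), (11, 1), (13, 0), (14, 0),
  (15, 0), (16, 1), (18, 1), (20, 0), (21, 0), (22, 0), (23, 0), (13, 0), (14, 0), (1, 0), (2, 1), (4, 0),
  (5, 1), (7, 0), (8, 0), (9, 0)]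

/-- Moves. -/
def armMv4 : List (ℕ × ℕ) := [(10, 0), (11, 1), (13, 0), (14, 1), (16, 0), (17, 0), (18, 1), (20, 0), (21, 0), (16, 0), (0, 1), (2, 0),
  (3, 1), (5, 0), (6, 0), (7, 0), (8, 0), (9, 0), (10, 0), (11, 1), (13, 0), (14, 1), (16, 1), (18, 0),
  (19, 0), (20, 0), (21, 1), (23, 1), (25, 0), (26, 0), (27, 1), (29, 0), (30, 0), (31, 1), (33, 1), (35, 1),
  (37, 1), (39, 1), (41, 2), (40, 2), (38, 0), (39, 2), (36, 0), (37, 0), (38, 2), (34, 0), (35, 0), (36, 0),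
  (37, 2), (32, 0), (33, 0), (34, 0), (35, 0), (36, 2), (30, 0), (28, 1), (30, 1), (32, 0), (33, 0), (34, 0),
  (35, 2), (34, 2), (33, 2), (32, 2), (31, 2), (29, 0), (30, 2), (27, 0), (28, 0), (29, 2), (28, 2), (20, 0),
  (21, 0), (22, 0), (23, 0), (24, 0), (19, 0), (20, 0), (21, 0), (22, 0), (17, 1), (19, 0), (20, 0), (16, 0),
  (17, 1), (15, 0), (13, 1), (15, 1), (17, 0), (18, 1), (20, 1), (22, 1), (24, 1), (26, 0), (27, 2), (25, 0),
  (26, 2), (23, 0), (21, 0), (22, 0), (23, 1), (25, 2), (24, 2), (19, 0), (20, 0), (21, 0), (22, 0), (23, 2),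
  (12, 0), (13, 0), (10, 1), (12, 0), (13, 1), (15, 0), (16, 0), (17, 0), (18, 0), (19, 0), (20, 0), (21, 0),
  (22, 2), (15, 1), (17, 0), (18, 0), (19, 0), (20, 0), (21, 2), (19, 0), (20, 2), (17, 1), (19, 2), (18, 2),
  (16, 0), (17, 2), (14, 0), (15, 0), (16, 2), (13, 0), (14, 0), (15, 2), (13, 0), (14, 2), (8, 0), (9, 0),
  (10, 0), (11, 0), (7, 0), (8, 0), (9, 0), (6, 0), (7, 0), (2, 0), (3, 0), (4, 1), (1, 0), (2, 1),
  (4, 0), (5, 1), (7, 1), (9, 1), (11, 1), (13, 2), (12, 2), (10, 0), (11, 2), (8, 0), (9, 0), (10, 2),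
  (6, 0), (7, 0), (8, 0), (9, 2), (0, 1), (2, 0), (3, 0), (4, 0), (5, 0), (6, 0), (7, 0), (8, 2),
  (2, 1), (4, 0), (5, 0), (6, 0), (7, 2), (6, 2), (5, 2), (4, 2), (3, 2), (1, 0), (2, 2), (0, 0),
  (1, 2), (0, 2)]

/-- The moves for the arm word. -/
def armMoves : List (ℕ × ℕ) := armMv0 ++ armMv1 ++ armMv2 ++ armMv3 ++ armMv4

/-- Moves. -/
def sevenMv0 : List (ℕ × ℕ) := [(26, 0), (27, 0), (28, 0), (29, 0), (30, 0), (31, 1), (33, 0), (34, 0), (35, 0), (36, 0), (37, 1), (39, 0),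
  (40, 0), (41, 0), (42, 0), (43, 1), (45, 0), (46, 0), (40, 0), (41, 0), (25, 0), (26, 0), (27, 0), (28, 0),
  (29, 1), (31, 0), (32, 0), (33, 0), (34, 0), (35, 1), (37, 0), (38, 0), (39, 0), (24, 0), (25, 0), (26, 0),
  (27, 1), (29, 0), (30, 0), (24, 0), (25, 0), (23, 0), (21, 1), (23, 1), (25, 1), (27, 0), (28, 0), (29, 0),
  (30, 1), (32, 0), (33, 1), (35, 0), (36, 0), (37, 0), (24, 0), (20, 0), (21, 0), (22, 1), (24, 1), (26, 0),
  (27, 0), (28, 0), (5, 0), (6, 0), (7, 0), (8, 0), (9, 0), (10, 1), (12, 0), (13, 0), (14, 0), (15, 0),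
  (16, 1), (18, 0), (19, 0), (20, 0), (4, 0), (5, 0), (6, 0), (7, 0), (8, 1), (10, 0), (11, 0), (12, 0),
  (13, 0), (14, 1), (16, 0), (17, 0), (3, 0), (4, 0), (5, 0), (6, 1), (8, 0), (9, 0), (3, 0), (4, 0),
  (2, 0), (0, 1), (2, 1), (4, 1), (6, 0), (7, 0), (8, 0), (9, 1), (11, 0), (12, 1), (14, 0), (15, 0),
  (16, 0), (17, 1), (19, 0), (20, 1), (22, 0), (23, 0), (24, 1), (26, 0), (27, 0), (28, 1), (30, 0), (31, 1),
  (33, 0), (34, 0), (35, 0), (36, 0), (37, 1), (39, 1), (41, 1), (43, 0), (44, 0), (45, 0), (46, 1), (48, 0),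
  (49, 1), (51, 0), (52, 0), (53, 0), (54, 0), (55, 1), (57, 0), (58, 0), (59, 0), (60, 0), (61, 0), (62, 2),
  (27, 0), (28, 0), (29, 0), (30, 0), (31, 0), (32, 0), (33, 0), (34, 1), (36, 0), (37, 0), (38, 0), (39, 0),
  (40, 0), (41, 0), (42, 1), (44, 0), (26, 0), (27, 0), (28, 0), (29, 0), (30, 0), (31, 0), (32, 1), (34, 0),
  (35, 0), (36, 0), (25, 0), (23, 1), (25, 1), (27, 0), (28, 0), (29, 0), (30, 1), (32, 0), (33, 0), (21, 1),
  (23, 0), (24, 0), (25, 1), (27, 0), (28, 1), (30, 0), (31, 0), (32, 0), (33, 1), (35, 0), (36, 1), (38, 0),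
  (39, 0), (40, 1), (42, 0), (43, 0), (44, 1), (46, 0), (47, 0), (48, 0), (49, 1), (51, 0), (52, 0), (46, 0),
  (47, 0), (45, 0), (38, 0), (26, 0), (27, 0), (25, 0), (23, 0), (19, 0), (20, 0), (21, 0), (22, 0), (23, 1),
  (25, 1), (27, 1), (29, 0), (30, 0), (31, 0), (22, 0), (23, 0), (18, 0), (19, 0), (20, 1), (22, 0), (23, 1),
  (25, 0), (26, 0), (27, 1), (29, 0), (30, 0), (31, 1), (33, 0), (34, 0), (35, 0), (36, 1), (38, 1), (40, 0),
  (41, 0), (42, 0), (43, 0), (34, 0), (35, 0), (36, 0), (33, 0), (8, 0), (9, 0), (10, 0), (11, 0), (12, 0),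
  (13, 0), (14, 1), (16, 0), (7, 0), (8, 0), (9, 0), (10, 0), (11, 0), (12, 1), (14, 0), (5, 1), (7, 0),
  (8, 0), (9, 0), (10, 1), (12, 0), (13, 0), (14, 1), (16, 1), (18, 0), (19, 0), (20, 0), (21, 0), (17, 0),
  (15, 0), (7, 0), (8, 0), (6, 0), (3, 0), (4, 0), (1, 0), (2, 0), (3, 0), (4, 1), (6, 1), (8, 1),
  (10, 0), (11, 0), (12, 0), (13, 0), (14, 0), (15, 1), (17, 1), (19, 0), (20, 0), (21, 1), (23, 0), (24, 0),
  (25, 0), (26, 0), (27, 1), (29, 0), (30, 0), (31, 1), (33, 1), (35, 0), (36, 1), (38, 0), (39, 0), (40, 0),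
  (41, 0), (42, 0), (43, 1), (45, 1), (47, 1), (49, 0), (50, 0), (51, 0), (52, 1), (54, 0), (55, 1), (57, 0),
  (58, 0), (59, 0), (60, 0), (61, 2), (29, 0), (30, 0), (31, 0), (32, 0), (33, 0), (34, 0), (35, 0), (36, 0),
  (37, 0), (38, 0), (39, 1), (28, 0), (29, 0), (27, 0), (25, 1), (27, 1), (29, 1), (31, 0), (32, 0), (33, 0),
  (34, 0), (35, 0), (36, 0), (37, 1), (39, 0), (40, 1), (42, 0), (43, 0), (44, 0), (45, 0), (46, 0), (47, 0),
  (48, 1), (50, 0), (41, 0), (42, 0), (30, 0), (28, 0), (23, 1), (25, 0), (26, 0), (27, 0), (28, 1), (30, 1),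
  (32, 0), (33, 0), (34, 0), (35, 1), (37, 0), (38, 0), (39, 0), (25, 0), (26, 0), (22, 0), (23, 1), (25, 0),
  (26, 1), (28, 0), (29, 0), (30, 1), (32, 0), (33, 1), (35, 0), (36, 0), (37, 0), (38, 0), (39, 1), (41, 0),
  (42, 1), (44, 0), (45, 0), (46, 1)]

/-- Moves. -/
def sevenMv1 : List (ℕ × ℕ) := [(48, 0), (49, 0), (50, 1), (52, 0), (53, 0), (54, 0), (55, 1), (57, 0), (58, 0), (52, 0), (53, 0), (51, 0),
  (44, 0), (31, 0), (32, 0), (30, 0), (28, 0), (20, 0), (19, 0), (20, 1), (22, 0), (23, 0), (24, 0), (25, 0),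
  (26, 0), (27, 0), (28, 1), (30, 1), (32, 1), (34, 0), (35, 0), (36, 0), (37, 0), (27, 0), (28, 0), (18, 0),
  (19, 0), (20, 1), (22, 0), (23, 0), (24, 0), (25, 1), (27, 0), (28, 1), (30, 0), (31, 0), (32, 1), (34, 0),
  (35, 0), (36, 0), (37, 1), (39, 0), (40, 0), (41, 0), (42, 1), (44, 1), (46, 0), (47, 0), (48, 0), (49, 0),
  (40, 0), (41, 0), (42, 0), (39, 0), (23, 0), (24, 0), (25, 0), (26, 0), (22, 0), (16, 0), (17, 0), (18, 0),
  (19, 0), (20, 1), (22, 1), (24, 0), (25, 0), (26, 1), (28, 0), (29, 0), (30, 0), (31, 0), (32, 1), (34, 0),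
  (12, 0), (10, 1), (12, 1), (14, 0), (15, 0), (13, 0), (11, 0), (9, 0), (10, 0), (11, 1), (13, 1), (15, 1),
  (17, 0), (18, 0), (19, 0), (20, 0), (21, 0), (22, 0), (23, 0), (24, 0), (16, 0), (17, 0), (18, 0), (19, 0),
  (14, 0), (15, 0), (16, 0), (12, 0), (13, 0), (14, 0), (7, 0), (8, 0), (9, 0), (10, 0), (11, 0), (12, 0),
  (5, 0), (6, 0), (7, 0), (8, 0), (9, 0), (10, 0), (11, 0), (12, 1), (14, 1), (16, 1), (18, 0), (19, 1),
  (21, 0), (22, 0), (23, 0), (24, 1), (26, 0), (27, 0), (28, 0), (29, 0), (30, 0), (31, 0), (32, 1), (34, 1),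
  (36, 0), (37, 1), (39, 1), (41, 0), (42, 1), (44, 0), (45, 0), (46, 0), (47, 0), (48, 0), (49, 1), (51, 1),
  (53, 1), (55, 0), (56, 0), (57, 0), (58, 1), (60, 2), (33, 0), (31, 1), (33, 1), (35, 0), (36, 0), (37, 0),
  (38, 0), (39, 0), (40, 0), (41, 0), (42, 0), (43, 0), (44, 0), (45, 1), (34, 0), (35, 0), (32, 0), (33, 0),
  (30, 0), (31, 0), (29, 0), (30, 0), (31, 1), (33, 1), (35, 1), (37, 0), (38, 0), (39, 0), (40, 0), (41, 0),
  (42, 0), (43, 1), (45, 0), (46, 1), (48, 0), (49, 0), (50, 0), (51, 0), (52, 0), (53, 0), (54, 1), (56, 0),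
  (47, 0), (48, 0), (36, 0), (34, 0), (28, 0), (29, 0), (27, 0), (28, 0), (29, 1), (31, 0), (32, 0), (33, 0),
  (34, 1), (36, 1), (38, 0), (39, 0), (40, 0), (41, 1), (43, 0), (44, 0), (45, 0), (31, 0), (32, 0), (25, 1),
  (27, 0), (28, 0), (29, 1), (31, 0), (32, 1), (34, 0), (35, 0), (36, 1), (38, 0), (39, 1), (41, 0), (42, 0),
  (43, 0), (44, 0), (45, 1), (47, 0), (48, 1), (50, 0), (51, 0), (52, 1), (54, 0), (55, 0), (56, 1), (58, 0),
  (59, 2), (42, 1), (44, 0), (45, 0), (46, 0), (47, 0), (48, 0), (49, 0), (50, 0), (51, 0), (52, 0), (53, 1),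
  (43, 0), (44, 0), (45, 0), (41, 0), (40, 0), (41, 1), (43, 0), (44, 0), (45, 1), (47, 0), (48, 0), (49, 0),
  (50, 0), (51, 1), (53, 0), (54, 1), (56, 0), (57, 0), (58, 2), (52, 1), (54, 0), (55, 0), (56, 0), (57, 2),
  (56, 2), (44, 0), (45, 0), (46, 0), (43, 0), (44, 0), (42, 0), (31, 0), (32, 0), (33, 0), (30, 0), (18, 0),
  (19, 0), (17, 0), (8, 0), (9, 1), (11, 0), (12, 0), (13, 0), (14, 0), (15, 1), (17, 1), (19, 1), (21, 0),
  (22, 0), (23, 0), (24, 0), (25, 0), (26, 0), (27, 0), (28, 1), (30, 1), (32, 0), (33, 1), (35, 0), (36, 0),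
  (37, 0), (38, 0), (26, 0), (27, 0), (28, 0), (29, 0), (30, 0), (31, 0), (25, 0), (26, 0), (27, 0), (24, 0),
  (14, 0), (15, 0), (7, 1), (9, 0), (10, 0), (11, 0), (12, 1), (14, 0), (15, 1), (17, 0), (18, 0), (19, 1),
  (21, 0), (22, 0), (11, 0), (12, 0), (13, 0), (2, 0), (3, 0), (4, 1), (2, 0), (0, 1), (2, 1), (4, 0),
  (5, 1), (7, 0), (8, 0), (9, 1), (11, 0), (12, 0), (13, 1), (15, 0), (16, 0), (17, 0), (18, 0), (19, 1),
  (21, 0), (22, 1), (24, 1), (26, 0), (27, 1), (29, 0), (30, 0), (31, 1), (33, 0), (34, 0), (35, 0), (36, 0),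
  (37, 0), (38, 1), (40, 1), (42, 1), (44, 1), (46, 1), (48, 0), (49, 0), (50, 0), (51, 0), (52, 0), (53, 0),
  (54, 0), (55, 2), (47, 0), (45, 0)]

/-- Moves. -/
def sevenMv2 : List (ℕ × ℕ) := [(35, 0), (36, 0), (37, 0), (38, 0), (39, 0), (40, 0), (34, 0), (30, 0), (31, 0), (32, 0), (20, 0), (21, 0),
  (19, 0), (18, 0), (19, 1), (21, 1), (23, 0), (24, 0), (25, 0), (26, 0), (27, 0), (28, 0), (29, 0), (30, 0),
  (31, 0), (32, 1), (34, 1), (36, 0), (37, 0), (31, 0), (32, 0), (28, 0), (29, 0), (22, 0), (20, 0), (16, 0),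
  (17, 0), (18, 0), (19, 0), (20, 1), (22, 1), (24, 0), (25, 0), (26, 0), (27, 0), (28, 0), (29, 1), (31, 0),
  (32, 1), (34, 0), (28, 0), (29, 0), (30, 0), (26, 0), (16, 0), (17, 0), (18, 0), (15, 0), (14, 0), (15, 1),
  (17, 0), (18, 1), (20, 0), (21, 0), (22, 1), (24, 0), (25, 0), (26, 1), (28, 0), (29, 0), (30, 1), (32, 0),
  (33, 0), (34, 1), (36, 0), (37, 1), (39, 0), (40, 1), (42, 0), (43, 0), (44, 0), (45, 1), (47, 1), (49, 0),
  (50, 0), (51, 0), (52, 0), (42, 0), (43, 0), (33, 0), (34, 0), (35, 0), (31, 1), (33, 0), (34, 0), (35, 1),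
  (37, 0), (38, 0), (39, 0), (40, 1), (42, 0), (43, 1), (45, 0), (46, 0), (47, 1), (49, 0), (50, 0), (48, 0),
  (38, 0), (39, 0), (40, 0), (41, 0), (37, 0), (23, 0), (24, 0), (25, 0), (22, 0), (23, 0), (20, 0), (12, 0),
  (8, 0), (9, 0), (10, 0), (11, 0), (12, 1), (14, 0), (15, 0), (16, 0), (17, 0), (18, 0), (19, 0), (20, 1),
  (22, 0), (23, 1), (25, 1), (27, 0), (28, 0), (29, 0), (19, 0), (20, 0), (21, 0), (10, 0), (7, 0), (8, 0),
  (9, 0), (10, 1), (12, 0), (8, 0), (6, 0), (7, 0), (8, 1), (10, 0), (11, 0), (12, 1), (14, 0), (15, 0),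
  (16, 0), (17, 1), (19, 0), (20, 0), (21, 1), (23, 0), (24, 0), (25, 1), (27, 0), (28, 0), (29, 1), (31, 0),
  (32, 0), (33, 0), (34, 0), (35, 1), (37, 1), (39, 0), (40, 0), (41, 1), (43, 0), (44, 0), (45, 0), (46, 0),
  (33, 0), (34, 0), (35, 0), (36, 0), (37, 0), (38, 0), (39, 0), (32, 0), (33, 0), (34, 0), (31, 0), (15, 0),
  (16, 0), (17, 0), (18, 0), (19, 0), (14, 0), (3, 1), (5, 0), (6, 0), (1, 0), (2, 0), (3, 1), (5, 0),
  (6, 1), (8, 0), (9, 0), (10, 0), (11, 0), (12, 1), (14, 1), (16, 0), (17, 0), (18, 0), (19, 1), (21, 0),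
  (22, 0), (23, 0), (24, 0), (25, 1), (27, 0), (28, 0), (29, 1), (31, 1), (33, 0), (34, 1), (36, 0), (37, 0),
  (38, 0), (39, 1), (41, 0), (42, 0), (43, 0), (44, 0), (45, 0), (46, 1), (48, 1), (50, 1), (52, 1), (54, 2),
  (53, 2), (51, 0), (52, 2), (49, 0), (50, 0), (51, 2), (47, 0), (48, 0), (49, 0), (50, 2), (43, 0), (26, 0),
  (27, 0), (28, 0), (25, 0), (26, 0), (24, 0), (23, 0), (24, 1), (26, 1), (28, 1), (30, 0), (31, 0), (32, 0),
  (33, 0), (34, 0), (35, 0), (36, 1), (38, 0), (39, 0), (40, 0), (41, 1), (43, 1), (45, 0), (46, 0), (44, 0),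
  (29, 0), (27, 0), (10, 0), (11, 0), (12, 0), (13, 0), (14, 0), (15, 0), (16, 1), (18, 0), (19, 0), (20, 0),
  (21, 1), (8, 1), (10, 0), (11, 0), (12, 0), (13, 0), (14, 1), (16, 0), (17, 0), (18, 0), (19, 1), (21, 0),
  (22, 1), (24, 0), (25, 0), (26, 0), (27, 1), (29, 1), (31, 0), (32, 0), (33, 0), (34, 1), (36, 0), (37, 0),
  (38, 0), (39, 1), (41, 0), (42, 0), (24, 0), (25, 0), (7, 0), (8, 1), (10, 0), (11, 0), (12, 1), (14, 0),
  (15, 0), (16, 0), (17, 1), (19, 0), (20, 0), (21, 0), (22, 1), (24, 0), (25, 1), (27, 0), (28, 0), (29, 1),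
  (31, 0), (32, 1), (34, 0), (35, 0), (36, 0), (37, 1), (39, 0), (40, 0), (41, 0), (42, 1), (44, 1), (46, 1),
  (48, 0), (49, 2), (35, 0), (36, 0), (37, 0), (38, 0), (34, 0), (35, 0), (36, 0), (33, 0), (34, 0), (32, 0),
  (15, 0), (16, 0), (17, 0), (18, 0), (14, 0), (15, 0), (16, 0), (13, 0), (14, 0), (12, 0), (5, 0), (6, 0),
  (7, 0), (8, 0), (9, 0), (10, 1), (12, 1), (14, 1), (16, 1), (18, 1), (20, 0), (21, 0), (22, 0), (23, 0),
  (24, 0), (25, 0), (26, 0), (27, 0), (28, 0), (29, 0), (30, 1), (32, 1), (34, 1), (36, 1), (38, 1), (40, 0),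
  (41, 0), (42, 0), (43, 0), (44, 0)]

/-- Moves. -/
def sevenMv3 : List (ℕ × ℕ) := [(45, 0), (46, 0), (39, 0), (40, 0), (41, 0), (37, 0), (29, 0), (30, 0), (31, 0), (32, 0), (28, 0), (29, 0),
  (26, 0), (17, 0), (18, 1), (20, 0), (21, 0), (22, 0), (23, 0), (24, 0), (25, 0), (26, 1), (28, 0), (29, 1),
  (31, 0), (32, 1), (34, 0), (35, 0), (36, 0), (37, 1), (34, 0), (35, 0), (25, 0), (26, 0), (27, 0), (15, 0),
  (16, 0), (17, 0), (18, 1), (20, 0), (21, 0), (22, 0), (23, 1), (25, 0), (26, 0), (27, 1), (29, 0), (30, 0),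
  (31, 0), (32, 1), (34, 0), (35, 1), (37, 0), (38, 1), (40, 0), (41, 1), (43, 0), (44, 0), (30, 0), (31, 0),
  (32, 0), (33, 0), (29, 0), (13, 0), (14, 0), (15, 0), (16, 0), (17, 0), (18, 1), (20, 0), (21, 1), (23, 0),
  (24, 0), (25, 0), (26, 0), (27, 1), (29, 1), (31, 0), (32, 0), (33, 1), (35, 0), (36, 0), (37, 0), (38, 1),
  (40, 0), (41, 1), (35, 1), (37, 0), (38, 0), (39, 0), (34, 0), (35, 1), (37, 0), (20, 0), (21, 0), (22, 0),
  (23, 0), (24, 0), (19, 0), (9, 0), (10, 0), (4, 0), (5, 0), (6, 0), (7, 1), (9, 0), (10, 1), (12, 0),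
  (13, 0), (14, 0), (15, 0), (16, 0), (17, 1), (19, 1), (21, 0), (22, 0), (23, 0), (24, 1), (26, 0), (27, 0),
  (28, 0), (29, 0), (30, 1), (32, 0), (33, 0), (2, 1), (4, 0), (5, 1), (7, 0), (8, 0), (9, 0), (10, 1),
  (12, 0), (13, 0), (14, 0), (15, 1), (17, 0), (18, 0), (19, 1), (21, 0), (22, 0), (23, 0), (24, 1), (26, 0),
  (27, 0), (28, 1), (30, 0), (31, 0), (26, 0), (0, 1), (2, 0), (3, 1), (5, 0), (6, 0), (7, 0), (8, 0),
  (9, 0), (10, 1), (12, 0), (13, 1), (15, 0), (16, 0), (17, 0), (18, 0), (19, 1), (21, 0), (22, 0), (23, 0),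
  (24, 1), (26, 1), (28, 0), (29, 0), (30, 0), (31, 1), (33, 1), (35, 0), (36, 0), (37, 1), (39, 1), (41, 0),
  (42, 1), (44, 1), (46, 1), (48, 2), (47, 2), (45, 0), (46, 2), (40, 1), (42, 0), (43, 0), (44, 0), (45, 2),
  (36, 0), (37, 0), (38, 0), (34, 1), (36, 0), (37, 0), (38, 1), (40, 0), (41, 0), (42, 0), (43, 0), (44, 2),
  (21, 0), (22, 0), (23, 0), (24, 0), (25, 0), (26, 0), (27, 0), (28, 0), (20, 0), (21, 0), (22, 0), (19, 0),
  (20, 0), (18, 0), (7, 0), (8, 0), (9, 0), (10, 0), (11, 0), (12, 0), (13, 0), (14, 0), (15, 0), (16, 1),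
  (18, 1), (20, 1), (22, 1), (24, 0), (25, 0), (26, 0), (27, 0), (28, 1), (30, 0), (31, 0), (32, 0), (33, 0),
  (34, 0), (35, 0), (36, 0), (29, 0), (30, 0), (31, 0), (23, 0), (21, 0), (15, 0), (16, 0), (6, 0), (2, 0),
  (3, 0), (4, 1), (6, 1), (8, 0), (9, 0), (10, 0), (11, 0), (12, 0), (13, 1), (15, 0), (16, 1), (18, 0),
  (19, 0), (20, 0), (21, 1), (23, 1), (25, 0), (26, 0), (27, 0), (18, 0), (19, 0), (1, 0), (2, 1), (4, 0),
  (5, 0), (6, 1), (8, 0), (9, 0), (10, 0), (11, 1), (13, 0), (14, 0), (15, 0), (16, 1), (18, 0), (19, 1),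
  (21, 0), (22, 0), (23, 1), (25, 0), (26, 0), (27, 1), (29, 0), (30, 0), (31, 1), (33, 0), (34, 0), (35, 0),
  (36, 1), (38, 0), (39, 0), (40, 0), (41, 0), (42, 0), (43, 2), (40, 0), (41, 0), (42, 2), (41, 2), (40, 2),
  (39, 2), (38, 2), (37, 2), (36, 2), (35, 2), (25, 0), (26, 0), (27, 0), (28, 0), (24, 0), (25, 0), (23, 0),
  (22, 0), (23, 1), (25, 1), (27, 0), (28, 1), (30, 0), (31, 0), (32, 0), (29, 0), (30, 0), (21, 0), (20, 0),
  (21, 1), (23, 0), (24, 0), (25, 1), (27, 0), (28, 0), (23, 0), (19, 0), (20, 0), (21, 1), (23, 1), (25, 0),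
  (26, 0), (8, 1), (10, 0), (11, 0), (12, 0), (13, 0), (14, 0), (15, 0), (16, 0), (17, 1), (19, 0), (20, 0),
  (21, 0), (7, 0), (8, 1), (10, 0), (11, 0), (12, 0), (13, 0), (14, 0), (15, 1), (17, 0), (18, 0), (6, 0),
  (7, 0), (8, 1), (10, 0), (11, 0), (12, 0), (13, 1), (15, 0), (16, 0), (5, 0), (6, 0), (7, 0), (8, 1),
  (10, 0), (11, 1), (13, 0), (14, 0), (15, 0), (16, 1), (18, 1), (20, 0), (21, 1), (23, 0), (24, 0), (25, 0),
  (26, 1), (28, 1), (30, 1), (32, 1)]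

/-- Moves. -/
def sevenMv4 : List (ℕ × ℕ) := [(34, 2), (33, 2), (31, 0), (32, 2), (29, 0), (30, 0), (31, 2), (27, 0), (28, 0), (29, 0), (30, 2), (15, 0),
  (16, 0), (17, 0), (18, 0), (19, 0), (14, 0), (15, 0), (12, 1), (14, 0), (15, 1), (17, 0), (18, 0), (19, 1),
  (21, 0), (22, 0), (23, 0), (24, 0), (25, 0), (26, 0), (27, 0), (28, 0), (29, 2), (23, 0), (24, 0), (22, 0),
  (21, 0), (22, 1), (24, 1), (26, 0), (27, 0), (28, 2), (27, 2), (26, 2), (25, 2), (23, 0), (24, 2), (20, 0),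
  (21, 0), (22, 0), (23, 2), (19, 0), (20, 0), (21, 0), (22, 2), (21, 2), (19, 0), (20, 2), (17, 1), (19, 2),
  (18, 2), (16, 0), (17, 2), (15, 0), (16, 2), (0, 1), (2, 0), (3, 0), (4, 1), (6, 0), (7, 0), (8, 0),
  (9, 0), (10, 0), (11, 0), (12, 0), (13, 0), (14, 0), (15, 2), (13, 0), (14, 2), (9, 0), (10, 0), (11, 0),
  (8, 0), (9, 0), (3, 0), (4, 0), (5, 0), (6, 1), (2, 0), (3, 0), (4, 1), (6, 0), (7, 1), (9, 1),
  (11, 1), (13, 2), (12, 2), (10, 0), (11, 2), (8, 0), (9, 0), (10, 2), (1, 0), (2, 1), (4, 0), (5, 0),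
  (6, 0), (7, 0), (8, 0), (9, 2), (0, 1), (2, 0), (3, 0), (4, 0), (5, 0), (6, 0), (7, 0), (8, 2),
  (3, 1), (5, 0), (6, 0), (7, 2), (6, 2), (5, 2), (4, 2), (2, 0), (3, 2), (1, 0), (2, 2), (0, 0),
  (1, 2), (0, 2)]

/-- The moves for the seven word. -/
def sevenMoves : List (ℕ × ℕ) := sevenMv0 ++ sevenMv1 ++ sevenMv2 ++ sevenMv3 ++ sevenMv4

end CfsgLib.CosetEnum.Fi22Mult
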