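/-
Braid moves and deletions of repeated letters preserve the value of a word in elements satisfying the braid
relations with one central square.
-/
import Cfsg.Agent.Lib.CosetEnum.Fi22Mult.MoveData
import Mathlib.Algebra.Group.Commute.Defs
import Mathlib.Algebra.BigOperators.Group.List.Basic

set_option autoImplicit false
set_option maxRecDepth 1000000

namespace CfsgLib.CosetEnum.Fi22Mult

/-- The joined pairs of the diagram of Fi22. -/
def edgeL : List (ℕ × ℕ) := [(0, 1), (1, 2), (2, 3), (3, 4), (4, 5), (5, 6), (3, 7), (7, 8)]

/-- Two letters are joined in the diagram. -/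
def joined2 (i j : ℕ) : Bool := edgeL.any fun e => (Nat.beq e.1 i && Nat.beq e.2 j) || (Nat.beq e.1 j && Nat.beq e.2 i)

/-- A move on a word starting at its head: exchange two unjoined letters, braid two joined letters, or delete a
repeated letter. -/
def headMove : ℕ → List ℕ → Option (List ℕ)
  | 0, a :: b :: r => if joined2 a b then none else some (b :: a :: r)
  | 1, a :: b :: a' :: r => if Nat.beq a a' && joined2 a b then some (b :: a :: b :: r) else none
  | 2, a :: b :: r => if Nat.beq a b then some r else none
  | _, _ => none

/-- A move at a position. -/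
def moveAt : ℕ → ℕ → List ℕ → Option (List ℕ)
  | 0, k, w => headMove k w
  | p + 1, k, a :: w => (moveAt p k w).map (a :: ·)
  | _ + 1, _, [] => none

/-- A sequence of moves. -/
def moves : List (ℕ × ℕ) → List ℕ → Option (List ℕ)
  | [], w => some w
  | e :: es, w => (moveAt e.1 e.2 w).bind (moves es)

section

variable {M : Type*} [Monoid M] (y : ℕ → M) (c : M)

/-- The relations used by the moves. -/
structure Artin : Prop where
  cen : ∀ x : M, Commute c x
  sq : ∀ i < 9, y i * y i = c
  comm : ∀ i < 9, ∀ j < 9, joined2 i j = false → Commute (y i) (y j)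
  braid : ∀ i < 9, ∀ j < 9, joined2 i j = true → y i * y j * y i = y j * y i * y j

/-- The relation between a word and the word after some moves. -/
def Rw (w w' : List ℕ) : Prop :=
  (∀ x ∈ w', x < 9) ∧ ∃ k, w.length = w'.length + 2 * k ∧ (w.map y).prod = c ^ k * (w'.map y).prod

variable {y c}

theorem headMove_spec (hA : Artin y c) : ∀ (k : ℕ) (w w' : List ℕ), (∀ x ∈ w, x < 9) → headMove k w = some w' →
    Rw y c w w'
  | 0, a :: b :: r, w', h, e => by
    simp only [headMove] at e
    split at e
    · simp at e
    · rename_i hn
      obtain rfl := Option.some.inj e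
      refine ⟨fun x hx => h x (by simp at hx ⊢; tauto), 0, by simp, ?_⟩
      simp only [List.map_cons, List.prod_cons, pow_zero, one_mul, ← mul_assoc]
      rw [(hA.comm a (h a (by simp)) b (h b (by simp)) (Bool.eq_false_iff.mpr hn)).eq]
  | 1, a :: b :: a' :: r, w', h, e => by
    simp only [headMove] at e
    split at e
    · rename_i hn
      rw [Bool.and_eq_true] at hn
      obtain rfl := Option.some.inj e
      obtain rfl := Nat.eq_of_beq_eq_true hn.1
      refine ⟨fun x hx => h x (by simp at hx ⊢; tauto), 0, by simp, ?_⟩
      simp only [List.map_cons, List.prod_cons, pow_zero, one_mul, ← mul_assoc]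
      rw [hA.braid a (h a (by simp)) b (h b (by simp)) hn.2]
    · simp at e
  | 2, a :: b :: r, w', h, e => by
    simp only [headMove] at e
    split at e
    · rename_i hn
      obtain rfl := Option.some.inj e
      obtain rfl := Nat.eq_of_beq_eq_true hn
      refine ⟨fun x hx => h x (by simp [hx]), 1, by simp, ?_⟩
      simp only [List.map_cons, List.prod_cons, pow_one, ← mul_assoc]
      rw [hA.sq a (h a (by simp))]
    · simp at e
  | 0, [], w', h, e => by simp [headMove] at e
  | 0, [_], w', h, e => by simp [headMove] at e
  | 1, [], w', h, e => by simp [headMove] at e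
  | 1, [_], w', h, e => by simp [headMove] at e
  | 1, [_, _], w', h, e => by simp [headMove] at e
  | 2, [], w', h, e => by simp [headMove] at e
  | 2, [_], w', h, e => by simp [headMove] at e
  | k + 3, w, w', h, e => by simp [headMove] at e

theorem moveAt_spec (hA : Artin y c) : ∀ (p k : ℕ) (w w' : List ℕ), (∀ x ∈ w, x < 9) → moveAt p k w = some w' →
    Rw y c w w' := by
  intro p
  induction p with
  | zero => exact headMove_spec hA
  | succ p ih =>
    intro k w w' h e
    cases w with
    | nil => simp [moveAt] at e
    | cons a w =>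
      simp only [moveAt, Option.map_eq_some_iff] at e
      obtain ⟨v, hv, rfl⟩ := e
      obtain ⟨h9, n, hl, hp⟩ := ih k w v (fun x hx => h x (by simp [hx])) hv
      refine ⟨fun x hx => ?_, n, by simp; omega, ?_⟩
      · rcases List.mem_cons.mp hx with rfl | hx
        exacts [h _ (by simp), h9 x hx]
      simp only [List.map_cons, List.prod_cons, hp, ← mul_assoc, ((hA.cen (y a)).pow_left n).eq]

theorem moves_spec (hA : Artin y c) : ∀ (es : List (ℕ × ℕ)) (w w' : List ℕ), (∀ x ∈ w, x < 9) →
    moves es w = some w' → Rw y c w w' := by
  intro es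
  induction es with
  | nil =>
    intro w w' h e
    obtain rfl := Option.some.inj e
    exact ⟨h, 0, by simp, by simp⟩
  | cons m es ih =>
    intro w w' h e
    simp only [moves, Option.bind_eq_some_iff] at e
    obtain ⟨v, hv, e⟩ := e
    obtain ⟨h9, a, hla, hpa⟩ := moveAt_spec hA m.1 m.2 w v h hv
    obtain ⟨h9', b, hlb, hpb⟩ := ih v w' h9 e
    refine ⟨h9', a + b, by omega, ?_⟩
    rw [hpa, hpb, pow_add, mul_assoc]

/-- A word reduced to the empty word is a power of the square. -/
theorem eval_reduced (hA : Artin y c) {es : List (ℕ × ℕ)} {w : List ℕ} (h : ∀ x ∈ w, x < 9)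
    (e : moves es w = some []) {k : ℕ} (hk : w.length = 2 * k) : (w.map y).prod = c ^ k := by
  obtain ⟨-, n, hl, hp⟩ := moves_spec hA es w [] h e
  rw [hp, show n = k by simp at hl; omega]; simp

end

/-- The spider word of the diagram of Fi22. -/
def spiderW : List ℕ := (List.replicate 10 [3, 2, 1, 3, 4, 5, 3, 7, 8]).flatten

/-- The arm word. -/
def armW : List ℕ := (List.replicate 9 [0, 1, 2, 3, 4, 5, 7]).flatten

/-- The word of type E7. -/
def sevenW : List ℕ := (List.replicate 9 [1, 2, 3, 4, 5, 6, 7]).flatten

/-- Three conjugates of the spider word. -/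
def spiderTriple : List ℕ :=
  spiderW ++ conjU ++ spiderW ++ conjU.reverse ++ conjV ++ spiderW ++ conjV.reverse

theorem spider_moves : moves spiderMoves spiderTriple = some [] := by decide +kernel

theorem arm_moves : moves armMoves (armW ++ armW) = some [] := by decide +kernel

theorem seven_moves : moves sevenMoves (sevenW ++ sevenW) = some [] := by decide +kernel

end CfsgLib.CosetEnum.Fi22Mult
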