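/-
Square matrices over the field of two elements by rows as numbers; the nine matrices satisfy the relations of Fi22
up to a scalar of order three.
-/
import Cfsg.Agent.Lib.CosetEnum.Fi22Mult.MatData
import Cfsg.Agent.Lib.CosetEnum.Fi22Mult.Moves
import Mathlib.LinearAlgebra.Matrix.GeneralLinearGroup.Defs
import Mathlib.Algebra.Field.ZMod
import Mathlib.Algebra.BigOperators.Fin
import Mathlib.Data.Nat.Bitwise
import Mathlib.Data.List.GetD

set_option autoImplicit false
set_option maxRecDepth 1000000

namespace CfsgLib.CosetEnum.Fi22Mult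

/-- The number of rows and columns. -/
abbrev dimF : ℕ := 54

/-- The matrix of rows given as numbers. -/
def toF (A : List ℕ) : Matrix (Fin dimF) (Fin dimF) (ZMod 2) :=
  fun r c => if (A.getD r 0).testBit c then 1 else 0

/-- The combination of the first rows of a matrix given by the bits of a number. -/
noncomputable def comb (a : ℕ) (B : List ℕ) : ℕ → ℕ
  | 0 => 0
  | m + 1 => Nat.xor (if Nat.testBit a m then B.getD m 0 else 0) (comb a B m)

/-- The product of two matrices by rows. -/
noncomputable def mulR (A B : List ℕ) : List ℕ := A.map fun a => comb a B 54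

/-- The rows of the identity. -/
noncomputable def idR : List ℕ := (List.range 54).map fun i => Nat.pow 2 i

theorem comb_bit (a : ℕ) (B : List ℕ) (c : ℕ) : ∀ m, (if (comb a B m).testBit c then (1 : ZMod 2) else 0) =
    ∑ j ∈ Finset.range m, (if a.testBit j then 1 else 0) * (if (B.getD j 0).testBit c then 1 else 0) := by
  intro m
  induction m with
  | zero => simp [comb]
  | succ m ih =>
    rw [Finset.sum_range_succ, ← ih, comb]
    show (if ((if Nat.testBit a m then B.getD m 0 else 0) ^^^ comb a B m).testBit c then (1 : ZMod 2) else 0) = _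
    rw [Nat.testBit_xor]
    by_cases ha : a.testBit m
    · simp only [ha, if_true, one_mul]
      cases (B.getD m 0).testBit c <;> cases (comb a B m).testBit c <;> decide
    · simp [ha]

theorem toF_mulR (A B : List ℕ) (hA : A.length = 54) : toF (mulR A B) = toF A * toF B := by
  ext r c
  show (if ((mulR A B).getD r 0).testBit c then (1 : ZMod 2) else 0) = _
  have hr : (r : ℕ) < A.length := hA ▸ r.2
  rw [mulR, List.getD_eq_getElem _ _ (by simpa using hr), List.getElem_map, comb_bit, Matrix.mul_apply,
    Finset.sum_range fun j => (if A[(r : ℕ)].testBit j then (1 : ZMod 2) else 0) *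
      (if (B.getD j 0).testBit c then 1 else 0)]
  simp only [toF, List.getD_eq_getElem _ _ hr]

theorem toF_idR : toF idR = 1 := by
  ext r c
  show (if (idR.getD r 0).testBit c then (1 : ZMod 2) else 0) = _
  rw [idR, List.getD_eq_getElem _ _ (by simp), List.getElem_map, List.getElem_range]
  show (if (2 ^ (r : ℕ)).testBit c then (1 : ZMod 2) else 0) = _
  rw [Nat.testBit_two_pow, Matrix.one_apply]
  by_cases h : r = c <;> simp [h, Fin.val_inj]

/-- The matrix of a generator, by rows. -/
noncomputable def gR (x : ℕ) : List ℕ := if x < 9 then gmats.getD x [] else idR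

/-- The value of a word, by rows. -/
noncomputable def runR (w : List ℕ) : List ℕ := w.foldr (fun x acc => mulR (gR x) acc) idR

theorem gR_len (x : ℕ) : (gR x).length = 54 := by
  by_cases hx : x < 9
  · rw [gR, if_pos hx]
    exact (show ∀ x < 9, (gmats.getD x []).length = 54 by decide +kernel) x hx
  · rw [gR, if_neg hx]; simp [idR]

theorem gR_sq : ∀ x < 9, mulR (gR x) (gR x) = idR := by decide +kernel

theorem gR_pairs : ∀ i < 9, ∀ j < 9, if joined2 i j then runR [i, j, i] = runR [j, i, j] else runR [i, j] = runR [j, i] := by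
  decide +kernel

theorem spider_mat : runR spiderW = wmat := by decide +kernel

theorem arm_mat : runR armW = idR := by decide +kernel

theorem seven_mat : runR sevenW = idR := by decide +kernel

theorem wmat_ok : wmat.length = 54 ∧ mulR wmat (mulR wmat wmat) = idR ∧ mulR wmat wmat ≠ idR := by decide +kernel

theorem wmat_central : ∀ x < 9, mulR wmat (gR x) = mulR (gR x) wmat := by decide +kernel

theorem toF_sq (x : ℕ) : toF (gR x) * toF (gR x) = 1 := by
  by_cases hx : x < 9
  · rw [← toF_mulR _ _ (gR_len x), gR_sq x hx, toF_idR]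
  · rw [gR, if_neg hx, toF_idR, one_mul]

/-- An element squaring to one as a unit. -/
def unitOf {α : Type*} [Monoid α] (a : α) (h : a * a = 1) : αˣ := ⟨a, a, h, h⟩

theorem unitOf_sq {α : Type*} [Monoid α] (a : α) (h : a * a = 1) : unitOf a h * unitOf a h = 1 := Units.ext h

/-- The matrices as units. -/
noncomputable def gU (x : ℕ) : (Matrix (Fin dimF) (Fin dimF) (ZMod 2))ˣ := unitOf (toF (gR x)) (toF_sq x)

theorem gU_val (x : ℕ) : (gU x : Matrix (Fin dimF) (Fin dimF) (ZMod 2)) = toF (gR x) := rfl

theorem gU_sq (x : ℕ) : gU x * gU x = 1 := unitOf_sq _ _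

theorem gU_prod : ∀ w : List ℕ, (((w.map gU).prod : (Matrix (Fin dimF) (Fin dimF) (ZMod 2))ˣ) :
    Matrix (Fin dimF) (Fin dimF) (ZMod 2)) = toF (runR w) := by
  intro w
  induction w with
  | nil => rw [List.map_nil, List.prod_nil, Units.val_one]; exact toF_idR.symm
  | cons x w ih =>
    rw [List.map_cons, List.prod_cons, Units.val_mul, ih, gU_val]
    exact (toF_mulR _ _ (gR_len x)).symm

theorem gU_word {v w : List ℕ} (h : runR v = runR w) : (v.map gU).prod = (w.map gU).prod :=
  Units.ext (by rw [gU_prod, gU_prod, h])

theorem gU_comm {i j : ℕ} (hi : i < 9) (hj : j < 9) (h : joined2 i j = false) : Commute (gU i) (gU j) := by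
  have e := gR_pairs i hi j hj
  rw [if_neg (by rw [h]; decide)] at e
  show gU i * gU j = gU j * gU i
  simpa using gU_word e

theorem gU_braid {i j : ℕ} (hi : i < 9) (hj : j < 9) (h : joined2 i j = true) :
    gU i * gU j * gU i = gU j * gU i * gU j := by
  have e := gR_pairs i hi j hj
  rw [if_pos h] at e
  simpa [mul_assoc] using gU_word e

theorem gU_one {w : List ℕ} (h : runR w = idR) : (w.map gU).prod = 1 :=
  Units.ext (by rw [gU_prod, h, toF_idR, Units.val_one])

theorem wU_central {x : ℕ} (hx : x < 9) : Commute (spiderW.map gU).prod (gU x) := by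
  refine Units.ext ?_
  rw [Units.val_mul, Units.val_mul, gU_prod, spider_mat, gU_val, ← toF_mulR _ _ wmat_ok.1,
    ← toF_mulR _ _ (gR_len x), wmat_central x hx]

theorem wU_ne : (spiderW.map gU).prod ^ 2 ≠ 1 := by
  intro h
  have h' := congrArg Units.val h
  rw [Units.val_pow_eq_pow_val, gU_prod, spider_mat, Units.val_one, pow_two, ← toF_mulR _ _ wmat_ok.1, ← toF_idR] at h'
  have key : ∀ r < 54, ∀ c < 54, ((mulR wmat wmat).getD r 0).testBit c = (idR.getD r 0).testBit c := by
    intro r hr c hc
    have := congrFun (congrFun h' ⟨r, hr⟩) ⟨c, hc⟩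
    simp only [toF] at this
    revert this
    cases ((mulR wmat wmat).getD r 0).testBit c <;> cases (idR.getD r 0).testBit c <;> decide
  exact absurd (key 1 (by decide) 0 (by decide)) (by decide +kernel)

end CfsgLib.CosetEnum.Fi22Mult
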