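/-
Every central extension of the presented Fi22 has lifts of the generators with the relations of the diagram and of
type E7; the values of the two other relators then generate the kernel of a stem extension.
-/
import Cfsg.Agent.Lib.CosetEnum.Fi22Mult.Moves
import Cfsg.Agent.Lib.CosetEnum.Fi22Aut.Main
import Cfsg.Agent.Lib.CosetEnum.Relations
import Mathlib.GroupTheory.Commutator.Basic
import Mathlib.GroupTheory.QuotientGroup.Basic

set_option autoImplicit false
set_option maxRecDepth 1000000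

open scoped commutatorElement

namespace CfsgLib.CosetEnum.Fi22Mult

open CfsgLib.CosetEnum

/-- The word of type E7 inside the stabiliser of the first generator. -/
def innerW : List ℕ := (List.replicate 9 [2, 3, 4, 5, 6, 7, 8]).flatten

theorem inner_fix : allN 3510 (fun d => Nat.beq (runT Fi3510.table 9 innerW d) d) = true := by decide +kernel

theorem labels22 : ∀ i < 9, ∀ j < 9, presFi22.m i j = if i = j then 1 else if joined2 i j then 3 else 2 := by
  decide +kernel

theorem rel_pair : ∀ i < 9, ∀ j < 9,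
    coxWord i j (presFi22.m i j) ∈ presFi22.rels ∨ coxWord j i (presFi22.m j i) ∈ presFi22.rels := by
  rw [Fi3510.rels_eq]; decide +kernel

theorem extra_eq : extraWFi22 = [spiderW, armW, sevenW] := by decide +kernel

theorem word_lt : (∀ x ∈ spiderW, x < 9) ∧ (∀ x ∈ armW, x < 9) ∧ (∀ x ∈ sevenW, x < 9) ∧
    (∀ x ∈ spiderTriple, x < 9) ∧ (∀ x ∈ innerW, 2 ≤ x ∧ x < 9) ∧ (∀ x ∈ conjU, x < 9) ∧ (∀ x ∈ conjV, x < 9) ∧
    spiderW.length = 90 ∧ armW.length = 63 ∧ sevenW.length = 63 ∧ innerW.length = 63 := by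
  decide +kernel

theorem spiderW_rel : spiderW ∈ presFi22.rels ∧ armW ∈ presFi22.rels ∧ sevenW ∈ presFi22.rels := by
  rw [Fi3510.rels_eq]; decide +kernel

theorem σ_comm {i j : ℕ} (hi : i < 9) (hj : j < 9) (h : joined2 i j = false) :
    Commute (presFi22.σ i) (presFi22.σ j) := by
  by_cases hij : i = j
  · rw [hij]
  have key : ∀ a b, a < 9 → b < 9 → a ≠ b → joined2 a b = false → coxWord a b (presFi22.m a b) ∈ presFi22.rels →
      Commute (presFi22.σ a) (presFi22.σ b) := by
    intro a b ha hb hab hn hm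
    have h1 := presFi22.rels_one hm
    rw [prod_coxWord, labels22 a ha b hb, if_neg hab, if_neg (by rw [hn]; decide), pow_two] at h1
    show presFi22.σ a * presFi22.σ b = presFi22.σ b * presFi22.σ a
    rw [eq_inv_of_mul_eq_one_left h1, mul_inv_rev, inv_eq_of_mul_eq_one_right (presFi22.σ_sq a),
      inv_eq_of_mul_eq_one_right (presFi22.σ_sq b)]
  have hs : joined2 j i = false := by
    have := (show ∀ i < 9, ∀ j < 9, joined2 i j = joined2 j i by decide +kernel) i hi j hj
    rw [← this, h]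
  rcases rel_pair i hi j hj with hm | hm
  exacts [key i j hi hj hij h hm, (key j i hj hi (Ne.symm hij) hs hm).symm]

theorem σ_braid {i j : ℕ} (hi : i < 9) (hj : j < 9) (h : joined2 i j = true) :
    presFi22.σ i * presFi22.σ j * presFi22.σ i = presFi22.σ j * presFi22.σ i * presFi22.σ j := by
  refine Fi22Aut.braid' ?_
  have e1 : presFi22.m i j = 3 ∧ presFi22.m j i = 3 := (show ∀ i < 9, ∀ j < 9, joined2 i j = true →
    presFi22.m i j = 3 ∧ presFi22.m j i = 3 by decide +kernel) i hi j hj h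
  have := rel_pair i hi j hj
  rwa [e1.1, e1.2] at this

theorem inner_one : ((innerW.reverse).map presFi22.σ).prod = 1 := by
  refine Fi22Aut.ext_of_points fun d => ?_
  rw [map_one, Equiv.Perm.one_apply]
  have h := Nat.eq_of_beq_eq_true (allN_spec inner_fix (d : ℕ) d.2)
  have e := (Fi3510.cert.hom_word_run' Fi3510.hlt Fi22Aut.hid innerW.reverse
    (fun x hx => (word_lt.2.2.2.2.1 x (List.mem_reverse.mp hx)).2) d)
  rw [List.reverse_reverse] at e
  exact e.trans h

/-- The steps spreading commutation through the diagram. -/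
def spreadL : List (ℕ × ℕ × ℕ) := [(0, 1, 3), (0, 1, 4), (0, 1, 5), (0, 1, 6), (0, 1, 7), (0, 1, 8), (1, 2, 4),
  (1, 2, 5), (1, 2, 6), (1, 2, 7), (1, 2, 8), (2, 3, 5), (2, 3, 6), (2, 3, 8), (3, 7, 5), (3, 4, 6), (3, 7, 6),
  (3, 4, 8), (4, 5, 8), (5, 4, 7), (5, 6, 8)]

/-- The pairs at the start. -/
def startL : List (ℕ × ℕ) := [(0, 2), (0, 3), (0, 4), (0, 5), (0, 6), (0, 7), (0, 8)]

/-- A pair is known in one of the two orders. -/
def knownB (K : List (ℕ × ℕ)) (a b : ℕ) : Bool :=
  K.any fun e => (Nat.beq e.1 a && Nat.beq e.2 b) || (Nat.beq e.1 b && Nat.beq e.2 a)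

/-- The spreading succeeds from a list of known pairs. -/
def spreadOK : List (ℕ × ℕ) → List (ℕ × ℕ × ℕ) → Bool
  | K, [] => (List.range 9).all fun a => (List.range 9).all fun b => Nat.beq a b || joined2 a b || knownB K a b
  | K, (a, c, b) :: L => Nat.blt a 9 && Nat.blt b 9 && Nat.blt c 9 && knownB K a b && joined2 a c &&
      !(joined2 a b) && !(joined2 c b) && spreadOK ((c, b) :: K) L

theorem spread_ok : spreadOK startL spreadL = true := by decide +kernel

section

variable {E : Type*} [Group E] {π : E →* presFi22.Grp} (hπ : Function.Surjective π)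
  (hker : π.ker ≤ Subgroup.center E)
include hπ hker

omit hπ in
theorem central_of_one {k : E} (hk : π k = 1) (e : E) : Commute k e :=
  (Subgroup.mem_center_iff.mp (hker hk) e).symm

/-- The step along an edge of the tree. -/
theorem edge_step {p u : E} {a b : ℕ} (ha : a < 9) (hb : b < 9) (hab : joined2 a b = true)
    (hp : π p = presFi22.σ a) (hu : π u = presFi22.σ b) (hc : ∀ e, Commute (p * p) e) :
    let q := p * u * p * (p * u)⁻¹
    π q = presFi22.σ b ∧ q * q = p * p ∧ p * q * p = q * p * q := by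
  intro q
  have hq : π q = presFi22.σ b := by
    show π (p * u * p * (p * u)⁻¹) = _
    rw [map_mul, map_mul, map_inv, map_mul, hp, hu, σ_braid ha hb hab]
    group
  refine ⟨hq, ?_, ?_⟩
  · calc q * q = p * u * (p * p) * (p * u)⁻¹ := by simp only [q]; group
      _ = p * p := by rw [← (hc (p * u)).eq, mul_inv_cancel_right]
  · have hk : π (u⁻¹ * q) = 1 := by rw [map_mul, map_inv, hu, hq, inv_mul_cancel]
    have hcen := central_of_one hker hk
    set k := u⁻¹ * q with hkd
    have e1 : q = u * k := by rw [hkd, mul_inv_cancel_left]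
    have e2 : p * q * p * (p * q)⁻¹ = q := by
      conv_rhs => rw [show q = p * u * p * (p * u)⁻¹ from rfl]
      rw [e1, show p * (u * k) * p * (p * (u * k))⁻¹ = p * u * (k * p * k⁻¹) * (p * u)⁻¹ by group,
        (hcen p).eq, mul_inv_cancel_right]
    calc p * q * p = p * q * p * (p * q)⁻¹ * (p * q) := by rw [inv_mul_cancel_right]
      _ = q * p * q := by rw [e2]; exact (mul_assoc q p q).symm

theorem exists_artin : ∃ (y : ℕ → E) (c : E), (∀ x < 9, π (y x) = presFi22.σ x) ∧ π c = 1 ∧ Artin y c := by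
  choose u hu using fun x : ℕ => hπ (presFi22.σ x)
  have hsq0 : π (u 0 * u 0) = 1 := by rw [map_mul, hu, presFi22.σ_sq]
  set c := u 0 * u 0 with hc
  have hcen := central_of_one hker hsq0
  let q : E → ℕ → E := fun p b => p * u b * p * (p * u b)⁻¹
  have st : ∀ {p : E} (a b : ℕ), a < 9 → b < 9 → joined2 a b = true → π p = presFi22.σ a ∧ p * p = c →
      (π (q p b) = presFi22.σ b ∧ q p b * q p b = c) ∧ p * q p b * p = q p b * p * q p b :=
    fun a b ha hb hab ⟨h1, h2⟩ =>
      have h := edge_step hπ hker ha hb hab h1 (hu b) (by rw [h2]; exact hcen)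
      ⟨⟨h.1, h.2.1.trans h2⟩, h.2.2⟩
  obtain ⟨f1, b1⟩ := st 0 1 (by decide) (by decide) (by decide) ⟨hu 0, hc.symm⟩
  obtain ⟨f2, b2⟩ := st 1 2 (by decide) (by decide) (by decide) f1
  obtain ⟨f3, b3⟩ := st 2 3 (by decide) (by decide) (by decide) f2
  obtain ⟨f4, b4⟩ := st 3 4 (by decide) (by decide) (by decide) f3
  obtain ⟨f5, b5⟩ := st 4 5 (by decide) (by decide) (by decide) f4
  obtain ⟨f6, b6⟩ := st 5 6 (by decide) (by decide) (by decide) f5
  obtain ⟨f7, b7⟩ := st 3 7 (by decide) (by decide) (by decide) f3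
  obtain ⟨f8, b8⟩ := st 7 8 (by decide) (by decide) (by decide) f7
  set z1 := q (u 0) 1
  set z2 := q z1 2
  set z3 := q z2 3
  set z4 := q z3 4
  set z5 := q z4 5
  set z6 := q z5 6
  set z7 := q z3 7
  set z8 := q z7 8
  let y : ℕ → E := fun x => [u 0, z1, z2, z3, z4, z5, z6, z7, z8].getD x 1
  have hy : ∀ x < 9, π (y x) = presFi22.σ x ∧ y x * y x = c := by
    intro x hx
    interval_cases x
    exacts [⟨hu 0, hc.symm⟩, f1, f2, f3, f4, f5, f6, f7, f8]
  have hbr : ∀ i < 9, ∀ j < 9, joined2 i j = true → y i * y j * y i = y j * y i * y j := by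
    intro i hi j hj h
    interval_cases i <;> interval_cases j <;>
      first
        | exact absurd h (by decide)
        | exact b1
        | exact b1.symm
        | exact b2
        | exact b2.symm
        | exact b3
        | exact b3.symm
        | exact b4
        | exact b4.symm
        | exact b5
        | exact b5.symm
        | exact b6
        | exact b6.symm
        | exact b7
        | exact b7.symm
        | exact b8
        | exact b8.symm
  refine ⟨y, c, fun x hx => (hy x hx).1, hsq0, hcen, fun i hi => (hy i hi).2, ?_, hbr⟩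
  -- conjugation of a generator by a commuting one
  have conjC : ∀ g : E, ∀ b < 9, Commute (π g) (presFi22.σ b) → ∃ k : E, (∀ e, Commute k e) ∧ g * y b * g⁻¹ = k * y b := by
    intro g b hb hg
    refine ⟨g * y b * g⁻¹ * (y b)⁻¹, central_of_one hker ?_, by rw [inv_mul_cancel_right]⟩
    rw [map_mul, map_mul, map_mul, map_inv, map_inv, (hy b hb).1, hg.eq, mul_inv_cancel_right, mul_inv_cancel]
  -- the seven commutators with the first lift are equal
  let κ : ℕ → E := fun x => y x * y 0 * (y x)⁻¹ * (y 0)⁻¹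
  have hκ : ∀ x, 2 ≤ x → x < 9 → (∀ e, Commute (κ x) e) := fun x hx hx' => central_of_one hker (by
    show π (y x * y 0 * (y x)⁻¹ * (y 0)⁻¹) = 1
    rw [map_mul, map_mul, map_mul, map_inv, map_inv, (hy x hx').1, (hy 0 (by norm_num)).1,
      (σ_comm hx' (by norm_num) ((show ∀ x < 9, 2 ≤ x → joined2 x 0 = false by decide +kernel) x hx' hx)).eq,
      mul_inv_cancel_right, mul_inv_cancel])
  have hκy : ∀ x, y x * y 0 * (y x)⁻¹ = κ x * y 0 := fun x => by simp only [κ]; rw [inv_mul_cancel_right]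
  have same : ∀ a b, 2 ≤ a → a < 9 → 2 ≤ b → b < 9 → joined2 a b = true → κ b = κ a := by
    intro a b ha ha' hb hb' hab
    have hg : Commute (π (y a * y b)) (presFi22.σ 0) := by
      rw [map_mul, (hy a ha').1, (hy b hb').1]
      have hn := fun x (h1 : x < 9) (h2 : 2 ≤ x) =>
        σ_comm h1 (show 0 < 9 by norm_num) ((show ∀ x < 9, 2 ≤ x → joined2 x 0 = false by decide +kernel) x h1 h2)
      exact (hn a ha' ha).mul_left (hn b hb' hb)
    obtain ⟨k, hk, hkg⟩ := conjC (y a * y b) 0 (by norm_num) hg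
    set g := y a * y b with hgd
    have eb : y b = g * y a * g⁻¹ := by
      rw [hgd, hbr a ha' b hb' hab]; group
    have e : y b * y 0 * (y b)⁻¹ = κ a * y 0 := by
      have i1 : g⁻¹ * y 0 * g = k⁻¹ * y 0 := by
        calc g⁻¹ * y 0 * g = g⁻¹ * (k⁻¹ * (g * y 0 * g⁻¹)) * g := by rw [hkg, inv_mul_cancel_left]
          _ = k⁻¹ * g⁻¹ * (g * y 0 * g⁻¹) * g := by rw [← mul_assoc g⁻¹, ((hk g⁻¹).inv_left).eq]
          _ = k⁻¹ * y 0 := by group
      calc y b * y 0 * (y b)⁻¹ = g * y a * (g⁻¹ * y 0 * g) * (y a)⁻¹ * g⁻¹ := by rw [eb]; group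
        _ = g * (y a * k⁻¹) * y 0 * (y a)⁻¹ * g⁻¹ := by rw [i1]; group
        _ = g * (k⁻¹ * y a) * y 0 * (y a)⁻¹ * g⁻¹ := by rw [((hk (y a)).inv_left).eq]
        _ = (g * k⁻¹) * (y a * y 0 * (y a)⁻¹) * g⁻¹ := by group
        _ = (k⁻¹ * g) * (κ a * y 0) * g⁻¹ := by rw [hκy, ((hk g).inv_left).eq]
        _ = k⁻¹ * (g * κ a) * y 0 * g⁻¹ := by group
        _ = k⁻¹ * κ a * (g * y 0 * g⁻¹) := by rw [← (hκ a ha ha' g).eq]; group
        _ = k⁻¹ * (κ a * k) * y 0 := by rw [hkg]; group
        _ = κ a * y 0 := by rw [← (hk (κ a)).eq]; group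
    exact mul_right_cancel ((hκy b).symm.trans e)
  have all_eq : ∀ x, 2 ≤ x → x < 9 → κ x = κ 2 := by
    have q3 := same 2 3 (by decide) (by decide) (by decide) (by decide) (by decide)
    have q4 := (same 3 4 (by decide) (by decide) (by decide) (by decide) (by decide)).trans q3
    have q5 := (same 4 5 (by decide) (by decide) (by decide) (by decide) (by decide)).trans q4
    have q6 := (same 5 6 (by decide) (by decide) (by decide) (by decide) (by decide)).trans q5
    have q7 := (same 3 7 (by decide) (by decide) (by decide) (by decide) (by decide)).trans q3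
    have q8 := (same 7 8 (by decide) (by decide) (by decide) (by decide) (by decide)).trans q7
    intro x hx hx'
    interval_cases x
    exacts [rfl, q3, q4, q5, q6, q7, q8]
  have hprod : ∀ w : List ℕ, (∀ x ∈ w, 2 ≤ x ∧ x < 9) →
      (w.map y).prod * y 0 * ((w.map y).prod)⁻¹ = κ 2 ^ w.length * y 0 := by
    intro w
    induction w with
    | nil => intro _; simp
    | cons x w ih =>
      intro h
      have hx := h x (by simp)
      have i := ih fun a ha => h a (List.mem_cons_of_mem _ ha)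
      rw [List.map_cons, List.prod_cons, List.length_cons, mul_inv_rev]
      calc y x * (w.map y).prod * y 0 * (((w.map y).prod)⁻¹ * (y x)⁻¹)
          = y x * ((w.map y).prod * y 0 * ((w.map y).prod)⁻¹) * (y x)⁻¹ := by group
        _ = (y x * κ 2 ^ w.length) * y 0 * (y x)⁻¹ := by rw [i]; group
        _ = κ 2 ^ w.length * (y x * y 0 * (y x)⁻¹) := by
          rw [← ((hκ 2 le_rfl (by norm_num) (y x)).pow_left w.length).eq]; group
        _ = κ 2 ^ (w.length + 1) * y 0 := by rw [hκy, all_eq x hx.1 hx.2, pow_succ]; exact (mul_assoc _ _ _).symm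
  have hW : ∀ e, Commute ((innerW.reverse).map y).prod e := central_of_one hker (by
    rw [map_list_prod, List.map_map]
    exact (congrArg List.prod (List.map_congr_left fun x hx =>
      (hy x (word_lt.2.2.2.2.1 x (List.mem_reverse.mp hx)).2).1)).trans inner_one)
  have h63 : κ 2 ^ 63 = 1 := by
    have h := hprod innerW.reverse fun x hx => word_lt.2.2.2.2.1 x (List.mem_reverse.mp hx)
    rw [(hW (y 0)).eq, mul_inv_cancel_right, List.length_reverse, word_lt.2.2.2.2.2.2.2.2.2.2] at h
    exact (mul_eq_right.mp h.symm)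
  have h2 : κ 2 * κ 2 = 1 := by
    have e : y 2 * y 2 * y 0 * (y 2 * y 2)⁻¹ = κ 2 * κ 2 * y 0 := by
      calc y 2 * y 2 * y 0 * (y 2 * y 2)⁻¹ = y 2 * (y 2 * y 0 * (y 2)⁻¹) * (y 2)⁻¹ := by group
        _ = (y 2 * κ 2) * y 0 * (y 2)⁻¹ := by rw [hκy]; group
        _ = κ 2 * (y 2 * y 0 * (y 2)⁻¹) := by rw [← (hκ 2 le_rfl (by norm_num) (y 2)).eq]; group
        _ = κ 2 * κ 2 * y 0 := by rw [hκy]; exact (mul_assoc _ _ _).symm
    rw [(hy 2 (by norm_num)).2, (hcen (y 0)).eq, mul_inv_cancel_right] at e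
    exact mul_eq_right.mp e.symm
  have h1 : κ 2 = 1 := by
    rw [show (63 : ℕ) = 2 * 31 + 1 from rfl, pow_succ, pow_mul, pow_two, h2, one_pow, one_mul] at h63
    exact h63
  -- spreading
  have spread : ∀ (L : List (ℕ × ℕ × ℕ)) (K : List (ℕ × ℕ)), spreadOK K L = true →
      (∀ e ∈ K, Commute (y e.1) (y e.2)) → ∀ a < 9, ∀ b < 9, joined2 a b = false → Commute (y a) (y b) := by
    intro L
    have of_known : ∀ (K : List (ℕ × ℕ)) (a b : ℕ), knownB K a b = true → (∀ e ∈ K, Commute (y e.1) (y e.2)) →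
        Commute (y a) (y b) := by
      intro K a b h hK
      simp only [knownB, List.any_eq_true, Bool.or_eq_true, Bool.and_eq_true] at h
      obtain ⟨e, he, ⟨q1, q2⟩ | ⟨q1, q2⟩⟩ := h
      · rw [← Nat.eq_of_beq_eq_true q1, ← Nat.eq_of_beq_eq_true q2]; exact hK e he
      · rw [← Nat.eq_of_beq_eq_true q1, ← Nat.eq_of_beq_eq_true q2]; exact (hK e he).symm
    induction L with
    | nil =>
      intro K h hK a ha b hb hn
      simp only [spreadOK, List.all_eq_true, List.mem_range, Bool.or_eq_true] at h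
      rcases h a ha b hb with (q | q) | q
      · rw [Nat.eq_of_beq_eq_true q]
      · rw [hn] at q; exact absurd q (by decide)
      · exact of_known K a b q hK
    | cons s L ih =>
      obtain ⟨a, d, b⟩ := s
      intro K h hK
      simp only [spreadOK, Bool.and_eq_true, Bool.not_eq_true'] at h
      obtain ⟨⟨⟨⟨⟨⟨⟨q1, q2⟩, q3⟩, q4⟩, q5⟩, q6⟩, q7⟩, q8⟩ := h
      rw [blt_iff] at q1 q2 q3
      refine ih _ q8 fun e he => ?_
      rcases List.mem_cons.mp he with rfl | he
      swap
      · exact hK e he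
      have hab := of_known K a b q4 hK
      set g := y a * y d with hgd
      obtain ⟨k, hk, hkg⟩ := conjC g b q2 (by
        rw [hgd, map_mul, (hy a q1).1, (hy d q3).1]
        exact (σ_comm q1 q2 q6).mul_left (σ_comm q3 q2 q7))
      have ed : y d = g * y a * g⁻¹ := by rw [hgd, hbr a q1 d q3 q5]; group
      have hcj : Commute (y d) (g * y b * g⁻¹) := by
        rw [ed]
        show g * y a * g⁻¹ * (g * y b * g⁻¹) = g * y b * g⁻¹ * (g * y a * g⁻¹)
        calc g * y a * g⁻¹ * (g * y b * g⁻¹) = g * (y a * y b) * g⁻¹ := by group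
          _ = g * (y b * y a) * g⁻¹ := by rw [hab.eq]
          _ = _ := by group
      rw [hkg] at hcj
      have := (hk (y d)).inv_left.symm.mul_right hcj
      rwa [inv_mul_cancel_left] at this
  refine spread spreadL startL spread_ok fun e he => ?_
  have h0 : e.1 = 0 ∧ 2 ≤ e.2 ∧ e.2 < 9 := (show ∀ e ∈ startL, e.1 = 0 ∧ 2 ≤ e.2 ∧ e.2 < 9 by decide) e he
  have hk := (all_eq e.2 h0.2.1 h0.2.2).trans h1
  have := hκy e.2
  rw [hk, one_mul, mul_inv_eq_iff_eq_mul] at this
  rw [h0.1]
  exact this.symm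

/-- **Normalised lifts of the generators.** -/
theorem exists_lifts : ∃ τ : ℕ → E, (∀ x < 9, π (τ x) = presFi22.σ x) ∧ Artin τ 1 ∧ (sevenW.map τ).prod = 1 := by
  obtain ⟨y, c, hy, hc, hA⟩ := exists_artin hπ hker
  have hval : ∀ w ∈ presFi22.rels, (∀ x ∈ w, x < 9) → π (w.map y).prod = 1 := fun w hw hlt => by
    rw [map_list_prod, List.map_map]
    exact (congrArg List.prod (List.map_congr_left fun x hx => hy x (hlt x hx))).trans (presFi22.rels_one hw)
  set ζ := (sevenW.map y).prod with hζd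
  have hζ := central_of_one hker (hval _ spiderW_rel.2.2 word_lt.2.2.1)
  have hζ2 : ζ * ζ = c ^ 63 := by
    rw [hζd, ← List.prod_append, ← List.map_append]
    refine eval_reduced hA (fun x hx => ?_) seven_moves (by rw [List.length_append, word_lt.2.2.2.2.2.2.2.2.2.1])
    rcases List.mem_append.mp hx with h | h <;> exact word_lt.2.2.1 x h
  set m := ζ⁻¹ * c ^ 31 with hmd
  have hm : ∀ e : E, Commute m e := fun e => (hζ e).inv_left.mul_left ((hA.cen e).pow_left 31)
  have hcm : c * (m * m) = 1 := by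
    have e : m * m = (ζ * ζ)⁻¹ * c ^ 62 := by
      rw [hmd, show (c : E) ^ 62 = c ^ 31 * c ^ 31 by rw [← pow_add], mul_inv_rev]
      calc ζ⁻¹ * c ^ 31 * (ζ⁻¹ * c ^ 31) = ζ⁻¹ * (c ^ 31 * ζ⁻¹) * c ^ 31 := by group
        _ = ζ⁻¹ * (ζ⁻¹ * c ^ 31) * c ^ 31 := by rw [((hζ (c ^ 31)).inv_left).eq]
        _ = ζ⁻¹ * ζ⁻¹ * (c ^ 31 * c ^ 31) := by group
    rw [e, hζ2]
    group
  have hπm : π m = 1 := by
    rw [hmd, map_mul, map_inv, map_pow, hc, hval _ spiderW_rel.2.2 word_lt.2.2.1]; simp
  refine ⟨fun x => y x * m, fun x hx => by rw [map_mul, hπm, mul_one, hy x hx],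
    ⟨fun x => Commute.one_left x, fun i hi => ?_, fun i hi j hj h => ?_, fun i hi j hj h => ?_⟩, ?_⟩
  · show y i * m * (y i * m) = 1
    rw [mul_assoc, ← mul_assoc m, (hm (y i)).eq, mul_assoc, ← mul_assoc, hA.sq i hi, hcm]
  · exact ((hA.comm i hi j hj h).mul_left (hm (y j))).mul_right ((hm (y i * m)).symm)
  · show y i * m * (y j * m) * (y i * m) = y j * m * (y i * m) * (y j * m)
    have e : ∀ a b d : E, a * m * (b * m) * (d * m) = a * b * d * (m * m * m) := fun a b d => by
      calc a * m * (b * m) * (d * m) = a * (m * b) * (m * d) * m := by group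
        _ = a * (b * m) * (d * m) * m := by rw [(hm b).eq, (hm d).eq]
        _ = a * b * (m * d) * (m * m) := by group
        _ = a * b * d * (m * m * m) := by rw [(hm d).eq]; group
    rw [e, e, hA.braid i hi j hj h]
  · have hl : ∀ w : List ℕ, (w.map fun x => y x * m).prod = (w.map y).prod * m ^ w.length := by
      intro w
      induction w with
      | nil => simp
      | cons x w ih =>
        simp only [List.map_cons, List.prod_cons, List.length_cons, ih, pow_succ']
        rw [mul_assoc (y x), ← mul_assoc m, (hm _).eq, mul_assoc (y x), mul_assoc]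
    rw [hl, ← hζd, word_lt.2.2.2.2.2.2.2.2.2.1, show (63 : ℕ) = 2 * 31 + 1 from rfl, pow_succ, pow_mul, pow_two]
    have h1 : c ^ 31 * (m * m) ^ 31 = 1 := by rw [← ((hA.cen (m * m)).mul_pow 31), hcm, one_pow]
    calc ζ * ((m * m) ^ 31 * m) = ζ * (m * (m * m) ^ 31) := by rw [((hm ((m * m) ^ 31)).eq)]
      _ = ζ * ζ⁻¹ * (c ^ 31 * (m * m) ^ 31) := by rw [hmd]; group
      _ = 1 := by rw [h1, mul_inv_cancel, mul_one]

end

end CfsgLib.CosetEnum.Fi22Mult
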