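/-
The Schur multiplier of the presented Fi22 is cyclic of order six.
-/
import Cfsg.Agent.Lib.CosetEnum.Fi22Mult.Normal
import Cfsg.Agent.Lib.CosetEnum.Fi22Mult.Mat
import Cfsg.Agent.Lib.CosetEnum.Fi23Class.Double
import Cfsg.Prelude.Def_KGroupFacts
import Mathlib.Data.ZMod.Basic
import Mathlib.GroupTheory.Abelianization.Defs

set_option autoImplicit false
set_option maxRecDepth 1000000

namespace CfsgLib.CosetEnum.Fi22Mult

open Cfsg CfsgLib.CosetEnum
open scoped commutatorElement

section

variable {E : Type*} [Group E] {τ : ℕ → E}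

theorem prod_central {k : E} (hk : ∀ e : E, Commute k e) (v : List ℕ) (hv : ∀ x ∈ v, x < 9) (hA : Artin τ (1 : E)) :
    (v.map τ).prod * k * (v.reverse.map τ).prod = k := by
  induction v with
  | nil => simp
  | cons a v ih =>
    have ha := hv a (by simp)
    rw [List.map_cons, List.prod_cons, List.reverse_cons, List.map_append, List.map_singleton, List.prod_append,
      List.prod_singleton]
    calc τ a * (v.map τ).prod * k * ((v.reverse.map τ).prod * τ a)
        = τ a * ((v.map τ).prod * k * (v.reverse.map τ).prod) * τ a := by group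
      _ = τ a * k * τ a := by rw [ih fun x hx => hv x (List.mem_cons_of_mem _ hx)]
      _ = k * (τ a * τ a) := by rw [← (hk (τ a)).eq, mul_assoc]
      _ = k := by rw [hA.sq a ha, mul_one]

theorem arm_sq (hA : Artin τ (1 : E)) : (armW.map τ).prod * (armW.map τ).prod = 1 := by
  rw [← List.prod_append, ← List.map_append]
  refine (eval_reduced hA (fun x hx => ?_) arm_moves (k := 63) ?_).trans (one_pow _)
  · rcases List.mem_append.mp hx with h | h <;> exact word_lt.2.1 x h
  · rw [List.length_append, word_lt.2.2.2.2.2.2.2.2.1]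

theorem spider_cube (hA : Artin τ (1 : E)) (hs : ∀ e, Commute (spiderW.map τ).prod e) : (spiderW.map τ).prod ^ 3 = 1 := by
  set s := (spiderW.map τ).prod with hsd
  have h := eval_reduced hA word_lt.2.2.2.1 spider_moves (k := 143) (by decide +kernel)
  rw [one_pow, spiderTriple] at h
  simp only [List.map_append, List.prod_append, ← hsd] at h
  calc s ^ 3 = s * s * s := by rw [pow_succ, pow_two]
    _ = s * ((conjU.map τ).prod * s * (conjU.reverse.map τ).prod) *
        ((conjV.map τ).prod * s * (conjV.reverse.map τ).prod) := by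
      rw [prod_central hs _ word_lt.2.2.2.2.2.1 hA, prod_central hs _ word_lt.2.2.2.2.2.2.1 hA]
    _ = 1 := by
      rw [← h]; simp only [mul_assoc]

/-- **The two exceptional values generate the kernel.** -/
theorem ker_span [Finite E] {π : E →* presFi22.Grp} (hτ : ∀ x < 9, π (τ x) = presFi22.σ x) (hA : Artin τ (1 : E))
    (h7 : (sevenW.map τ).prod = 1) (hgen : Subgroup.closure (τ '' Set.Iio 9) = ⊤)
    (ha : ∀ e, Commute (armW.map τ).prod e) (hs : ∀ e, Commute (spiderW.map τ).prod e) :
    ∀ e, π e = 1 → ∃ k : ℕ, e = ((spiderW.map τ).prod * (armW.map τ).prod) ^ k := by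
  classical
  set s := (spiderW.map τ).prod with hsd
  set a := (armW.map τ).prod with had
  set Z := Subgroup.zpowers (s * a)
  have hz : ∀ e, Commute (s * a) e := fun e => (hs e).mul_left (ha e)
  haveI : Z.Normal := ⟨fun x hx g => by
    obtain ⟨n, rfl⟩ := Subgroup.mem_zpowers_iff.mp hx
    have hc : Commute ((s * a) ^ n) g := (hz g).zpow_left n
    rwa [← hc.eq, mul_inv_cancel_right]⟩
  have s3 := spider_cube hA hs
  have a2 := arm_sq hA
  have haZ : a ∈ Z := by
    have e : (s * a) ^ 3 = a := by
      rw [(hs a).mul_pow, s3, one_mul, pow_succ, pow_two, a2, one_mul]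
    exact e ▸ pow_mem (Subgroup.mem_zpowers _) 3
  have hsZ : s ∈ Z := by
    have e : s = (s * a) * a⁻¹ := by rw [mul_inv_cancel_right]
    rw [e]; exact mul_mem (Subgroup.mem_zpowers _) (inv_mem haZ)
  let q := QuotientGroup.mk' Z
  let τq : ℕ → E ⧸ Z := fun x => if x < 9 then q (τ x) else 1
  have hval : ∀ w : List ℕ, (∀ x ∈ w, x < 9) → (w.map τq).prod = q (w.map τ).prod := fun w hw => by
    rw [map_list_prod, List.map_map]
    exact congrArg List.prod (List.map_congr_left fun x hx => if_pos (hw x hx))
  have hsq : ∀ x, τq x * τq x = 1 := fun x => by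
    show (if x < 9 then q (τ x) else 1) * (if x < 9 then q (τ x) else 1) = 1
    split
    · rename_i hx
      rw [← map_mul, hA.sq x hx, map_one]
    · exact one_mul 1
  have hrel : ∀ w ∈ presFi22.rels, (w.map τq).prod = 1 := by
    intro w hw
    have hlt : ∀ x ∈ w, x < 9 := fun x hx => Fi3510.hlt w hw x hx
    rw [hval w hlt]
    rcases presFi22.mem_rels hw with ⟨i, hi, j, hj, rfl⟩ | hw'
    · have hi' : i < 9 := hi
      have hj' : j < 9 := hj
      refine (congrArg q ?_).trans (map_one q)
      rw [prod_coxWord, labels22 i hi' j hj']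
      by_cases hij : i = j
      · rw [if_pos hij, hij, pow_one, hA.sq j hj']
      rw [if_neg hij]
      cases hjn : joined2 i j
      · rw [if_neg (by decide), (hA.comm i hi' j hj' hjn).mul_pow, pow_two, pow_two, hA.sq i hi', hA.sq j hj', one_mul]
      · rw [if_pos rfl]
        have b := hA.braid i hi' j hj' hjn
        calc (τ i * τ j) ^ 3 = (τ i * τ j * τ i) * (τ j * τ i * τ j) := by
              simp only [pow_succ, pow_zero, one_mul, mul_assoc]
          _ = (τ j * τ i * τ j) * (τ j * τ i * τ j) := by rw [b]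
          _ = τ j * τ i * (τ j * τ j) * τ i * τ j := by simp only [mul_assoc]
          _ = 1 := by rw [hA.sq j hj', mul_one, mul_assoc (τ j), hA.sq i hi', mul_one, hA.sq j hj']
    · rw [show presFi22.extraW = [spiderW, armW, sevenW] from extra_eq] at hw'
      simp only [List.mem_cons, List.not_mem_nil, or_false] at hw'
      rcases hw' with rfl | rfl | rfl
      · exact (QuotientGroup.eq_one_iff _).mpr hsZ
      · exact (QuotientGroup.eq_one_iff _).mpr haZ
      · rw [h7, map_one]
  obtain ⟨f, hf⟩ := presFi22.exists_hom τq hsq hrel Fi22Aut.hid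
  have hcomp : f.comp π = q := by
    refine MonoidHom.eq_of_eqOn_dense hgen ?_
    rintro _ ⟨x, hx, rfl⟩
    rw [MonoidHom.comp_apply, hτ x hx, hf x hx]
    exact if_pos hx
  intro e he
  have h1 : q e = 1 := by rw [← hcomp, MonoidHom.comp_apply, he, map_one]
  have h2 := (QuotientGroup.eq_one_iff _).mp h1
  exact ((isOfFinOrder_of_finite (s * a)).mem_zpowers_iff_mem_range_orderOf.mp h2) |> fun h => by
    obtain ⟨k, -, hk⟩ := Finset.mem_image.mp h
    exact ⟨k, hk.symm⟩

theorem sa_pow_six (hA : Artin τ (1 : E)) (hs : ∀ e, Commute (spiderW.map τ).prod e) :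
    ((spiderW.map τ).prod * (armW.map τ).prod) ^ 6 = 1 := by
  rw [(hs _).mul_pow, show (6 : ℕ) = 3 * 2 from rfl, pow_mul, spider_cube hA hs, one_pow, one_mul, pow_mul',
    pow_two, arm_sq hA, one_pow]

end

/-- The powers of an element with trivial sixth power, as a homomorphism. -/
def sixHom {M : Type*} [Group M] (z : M) (h : z ^ 6 = 1) : Multiplicative (ZMod 6) →* M where
  toFun x := z ^ (Multiplicative.toAdd x).val
  map_one' := by simp
  map_mul' x y := by
    rw [← pow_add, toAdd_mul, ZMod.val_add, ← pow_eq_pow_mod _ h]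

theorem sixHom_range {M : Type*} [Group M] {z : M} (h : z ^ 6 = 1) (k : ℕ) :
    sixHom z h (Multiplicative.ofAdd (k : ZMod 6)) = z ^ k := by
  show z ^ ((k : ZMod 6)).val = z ^ k
  rw [ZMod.val_natCast, ← pow_eq_pow_mod _ h]

/-- **The kernel of a finite stem extension of Fi22 is cyclic of order dividing six.** -/
theorem kernel_image {E : Type} [Group E] [Finite E] {π : E →* presFi22.Grp} (hσ : IsStemExtension π) :
    ∃ f : Multiplicative (ZMod 6) →* π.ker, Function.Surjective f := by
  obtain ⟨hπ, hker, hcom⟩ := hσ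
  obtain ⟨τ, hτ, hA, h7⟩ := exists_lifts hπ hker
  have hgen : Subgroup.closure (τ '' Set.Iio 9) = ⊤ := by
    set L := Subgroup.closure (τ '' Set.Iio 9)
    have hmap : L.map π = ⊤ := by
      rw [eq_top_iff, ← presFi22.gen_closure, Subgroup.closure_le]
      rintro _ ⟨x, hx, rfl⟩
      exact ⟨τ x, Subgroup.subset_closure ⟨x, hx, rfl⟩, hτ x hx⟩
    have hdec : ∀ e : E, ∃ k l, π k = 1 ∧ l ∈ L ∧ e = k * l := fun e => by
      obtain ⟨l, hl, hle⟩ := (hmap.symm ▸ Subgroup.mem_top (π e) : π e ∈ L.map π)
      exact ⟨e * l⁻¹, l, by rw [map_mul, map_inv, hle, mul_inv_cancel], hl, by rw [inv_mul_cancel_right]⟩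
    have hle : commutator E ≤ L := by
      rw [commutator_def, Subgroup.commutator_le]
      intro x _ y _
      obtain ⟨k, l, hk, hl, rfl⟩ := hdec x
      obtain ⟨k', l', hk', hl', rfl⟩ := hdec y
      have c1 := central_of_one hker hk
      have c2 := central_of_one hker hk'
      rw [show ⁅k * l, k' * l'⁆ = ⁅l, l'⁆ by
        simp only [commutatorElement_def, mul_inv_rev]
        calc k * l * (k' * l') * (l⁻¹ * k⁻¹) * (l'⁻¹ * k'⁻¹)
            = k * (l * k') * l' * l⁻¹ * (k⁻¹ * l'⁻¹) * k'⁻¹ := by group
          _ = k * (k' * l) * l' * l⁻¹ * (l'⁻¹ * k⁻¹) * k'⁻¹ := by rw [(c2 l).eq, ((c1 l'⁻¹).inv_left).eq]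
          _ = (k * k') * (l * l' * l⁻¹ * l'⁻¹) * (k' * k)⁻¹ := by group
          _ = (k * k') * (l * l' * l⁻¹ * l'⁻¹) * (k * k')⁻¹ := by rw [← (c1 k').eq]
          _ = l * l' * l⁻¹ * l'⁻¹ := by rw [((c1 _).mul_left (c2 _)).eq, mul_inv_cancel_right]]
      exact mul_mem (mul_mem (mul_mem hl hl') (inv_mem hl)) (inv_mem hl')
    rw [eq_top_iff]
    intro e _
    obtain ⟨k, l, hk, hl, rfl⟩ := hdec e
    exact mul_mem (hle (hcom hk)) hl
  have hπ1 : ∀ w ∈ presFi22.rels, π (w.map τ).prod = 1 := fun w hw => by
    rw [map_list_prod, List.map_map]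
    exact (congrArg List.prod (List.map_congr_left fun x hx => hτ x (Fi3510.hlt w hw x hx))).trans
      (presFi22.rels_one hw)
  have hs := central_of_one hker (hπ1 _ spiderW_rel.1)
  have ha := central_of_one hker (hπ1 _ spiderW_rel.2.1)
  set z : π.ker := ⟨(spiderW.map τ).prod * (armW.map τ).prod, by
    rw [MonoidHom.mem_ker, map_mul, hπ1 _ spiderW_rel.1, hπ1 _ spiderW_rel.2.1, one_mul]⟩
  have hz6 : z ^ 6 = 1 := Subtype.ext (sa_pow_six hA hs)
  refine ⟨sixHom z hz6, fun k => ?_⟩
  obtain ⟨n, hn⟩ := ker_span hτ hA h7 hgen ha hs k.1 k.2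
  exact ⟨Multiplicative.ofAdd (n : ZMod 6), by rw [sixHom_range]; exact Subtype.ext (by simpa using hn.symm)⟩

/-- The product in which the sixfold cover lives. -/
abbrev Amb : Type := presFi22.Grp × presFi23.Grp × (Matrix (Fin dimF) (Fin dimF) (ZMod 2))ˣ

/-- The second coordinate of a generator of the cover. -/
noncomputable def dCoord (x : ℕ) : presFi23.Grp := presFi23.σ (Fi23Class.emb x) * Fi23Class.tp

/-- The generators of the sixfold cover. -/
noncomputable def gCov (x : ℕ) : Amb := (presFi22.σ x, dCoord x, gU x)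

theorem prod_triple {α β γ : Type*} [Monoid α] [Monoid β] [Monoid γ] (f : ℕ → α) (g : ℕ → β) (h : ℕ → γ) (w : List ℕ) :
    (w.map fun x => ((f x, g x, h x) : α × β × γ)).prod = ((w.map f).prod, (w.map g).prod, (w.map h).prod) := by
  induction w with
  | nil => rfl
  | cons x w ih => simp [ih]

theorem tp_comm {x : ℕ} (hx : x < 9) : Commute (presFi23.σ (Fi23Class.emb x)) Fi23Class.tp :=
  Subgroup.mem_centralizer_singleton_iff.mp (Fi23Class.facts.1 ▸ Fi23Class.gen_mem hx)

theorem tp_sq : Fi23Class.tp * Fi23Class.tp = 1 := by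
  have h := pow_orderOf_eq_one Fi23Class.tp
  rwa [Fi23Class.facts.2.1.1.1 Fi23Class.tp mem_conjugatesOf_self, pow_two] at h

theorem dCoord_word : ∀ w : List ℕ, (∀ x ∈ w, x < 9) →
    (w.map dCoord).prod = ((w.map Fi23Class.emb).map presFi23.σ).prod * Fi23Class.tp ^ w.length ∧
      Commute ((w.map Fi23Class.emb).map presFi23.σ).prod Fi23Class.tp := by
  intro w
  induction w with
  | nil => intro _; simp
  | cons x w ih =>
    intro h
    obtain ⟨e, hc⟩ := ih fun y hy => h y (List.mem_cons_of_mem _ hy)
    have hx := tp_comm (h x (by simp))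
    refine ⟨?_, by simp only [List.map_cons, List.prod_cons]; exact hx.mul_left hc⟩
    simp only [List.map_cons, List.prod_cons, List.length_cons, dCoord, e, pow_succ']
    rw [mul_assoc (presFi23.σ _), ← mul_assoc Fi23Class.tp, ← hc.eq, mul_assoc _ Fi23Class.tp, ← mul_assoc]

theorem emb_word : ((spiderW.map Fi23Class.emb).map presFi23.σ).prod = 1 ∧
    ((armW.map Fi23Class.emb).map presFi23.σ).prod = 1 ∧ sevenW.map Fi23Class.emb = Fi23Class.zw := by
  have h : spiderW.map Fi23Class.emb ∈ presFi23.rels ∧ armW.map Fi23Class.emb ∈ presFi23.rels ∧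
      sevenW.map Fi23Class.emb = Fi23Class.zw := by
    rw [Fi31671.rels_eq]; decide +kernel
  exact ⟨presFi23.rels_one h.1, presFi23.rels_one h.2.1, h.2.2⟩

theorem emb_pairs (i : ℕ) (hi : i < 9) (j : ℕ) (hj : j < 9) (hij : i ≠ j) :
    coxWord (Fi23Class.emb i) (Fi23Class.emb j) (if joined2 i j then 3 else 2) ∈ presFi23.rels ∨
      coxWord (Fi23Class.emb j) (Fi23Class.emb i) (if joined2 i j then 3 else 2) ∈ presFi23.rels := by
  have h : ((List.range 9).all fun i => (List.range 9).all fun j => decide (i = j) ||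
      (Fi31671.rels.contains (coxWord (Fi23Class.emb i) (Fi23Class.emb j) (if joined2 i j then 3 else 2)) ||
        Fi31671.rels.contains (coxWord (Fi23Class.emb j) (Fi23Class.emb i) (if joined2 i j then 3 else 2)))) = true := by
    decide +kernel
  simp only [List.all_eq_true, List.mem_range, Bool.or_eq_true, decide_eq_true_eq, List.contains_iff_mem] at h
  rw [Fi31671.rels_eq]
  exact (h i hi j hj).resolve_left hij

theorem gCov_artin : Artin gCov (1 : Amb) := by
  have dsq : ∀ x < 9, dCoord x * dCoord x = 1 := fun x hx => by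
    show presFi23.σ _ * Fi23Class.tp * (presFi23.σ _ * Fi23Class.tp) = 1
    rw [mul_assoc, ← mul_assoc Fi23Class.tp, ← (tp_comm hx).eq, mul_assoc (presFi23.σ _), tp_sq, mul_one,
      presFi23.σ_sq]
  refine ⟨fun x => Commute.one_left x, fun i hi => ?_, fun i hi j hj h => ?_, fun i hi j hj h => ?_⟩
  · exact Prod.ext (presFi22.σ_sq i) (Prod.ext (dsq i hi) (gU_sq i))
  · refine Prod.ext (σ_comm hi hj h).eq (Prod.ext ?_ (gU_comm hi hj h).eq)
    by_cases hij : i = j
    · rw [hij]
    have hs : Commute (presFi23.σ (Fi23Class.emb i)) (presFi23.σ (Fi23Class.emb j)) := by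
      have key : ∀ a b, coxWord a b 2 ∈ presFi23.rels → Commute (presFi23.σ a) (presFi23.σ b) := fun a b hm => by
        have h1 := presFi23.rels_one hm
        rw [prod_coxWord, pow_two] at h1
        show presFi23.σ a * presFi23.σ b = presFi23.σ b * presFi23.σ a
        rw [eq_inv_of_mul_eq_one_left h1, mul_inv_rev, inv_eq_of_mul_eq_one_right (presFi23.σ_sq a),
          inv_eq_of_mul_eq_one_right (presFi23.σ_sq b)]
      have h2 := emb_pairs i hi j hj hij
      rw [h, if_neg (by decide)] at h2
      rcases h2 with h2 | h2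
      exacts [key _ _ h2, (key _ _ h2).symm]
    exact ((hs.mul_left (tp_comm hj).symm).mul_right ((tp_comm hi).mul_left (Commute.refl _))).eq
  · have hij : i ≠ j := fun e => by
      rw [e, (show ∀ j < 9, joined2 j j = false by decide +kernel) j hj] at h
      exact absurd h (by decide)
    refine Prod.ext (σ_braid hi hj h) (Prod.ext ?_ (gU_braid hi hj h))
    have hb : presFi23.σ (Fi23Class.emb i) * presFi23.σ (Fi23Class.emb j) * presFi23.σ (Fi23Class.emb i) =
        presFi23.σ (Fi23Class.emb j) * presFi23.σ (Fi23Class.emb i) * presFi23.σ (Fi23Class.emb j) := by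
      have key : ∀ a b, coxWord a b 3 ∈ presFi23.rels →
          presFi23.σ a * presFi23.σ b * presFi23.σ a = presFi23.σ b * presFi23.σ a * presFi23.σ b := fun a b hm => by
        have h1 := presFi23.rels_one hm
        rw [prod_coxWord] at h1
        have h' : presFi23.σ a * presFi23.σ b * presFi23.σ a * (presFi23.σ b * presFi23.σ a * presFi23.σ b) = 1 := by
          rw [← h1]; simp only [pow_succ, pow_zero, one_mul, mul_assoc]
        rw [eq_inv_of_mul_eq_one_left h', mul_inv_rev, mul_inv_rev, inv_eq_of_mul_eq_one_right (presFi23.σ_sq a),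
          inv_eq_of_mul_eq_one_right (presFi23.σ_sq b), mul_assoc]
      have h2 := emb_pairs i hi j hj hij
      rw [h, if_pos rfl] at h2
      rcases h2 with h2 | h2
      exacts [key _ _ h2, (key _ _ h2).symm]
    set P := presFi23.σ (Fi23Class.emb i)
    set Q := presFi23.σ (Fi23Class.emb j)
    set t := Fi23Class.tp
    have cp : Commute t P := (tp_comm hi).symm
    have cq : Commute t Q := (tp_comm hj).symm
    have e : ∀ a b, Commute t a → Commute t b → a * t * (b * t) * (a * t) = a * b * a * (t * t * t) := fun a b ca cb => by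
      calc a * t * (b * t) * (a * t) = a * (t * b) * (t * a) * t := by group
        _ = a * b * (t * a) * (t * t) := by rw [cb.eq, ca.eq]; simp only [mul_assoc, ca.eq, ← mul_assoc t a]
        _ = a * b * a * (t * t * t) := by rw [ca.eq]; group
    show P * t * (Q * t) * (P * t) = Q * t * (P * t) * (Q * t)
    rw [e P Q cp cq, e Q P cq cp, hb]

theorem gCov_seven : (sevenW.map gCov).prod = 1 := by
  show (sevenW.map fun x => ((presFi22.σ x, dCoord x, gU x) : Amb)).prod = 1
  rw [prod_triple, presFi22.rels_one spiderW_rel.2.2, gU_one seven_mat, (dCoord_word _ word_lt.2.2.1).1, emb_word.2.2,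
    word_lt.2.2.2.2.2.2.2.2.2.1, show (63 : ℕ) = 2 * 31 + 1 from rfl, pow_succ, pow_mul, pow_two, tp_sq, one_pow, one_mul]
  show ((1, Fi23Class.tp * Fi23Class.tp, 1) : Amb) = 1
  rw [tp_sq]; rfl

theorem gCov_arm : (armW.map gCov).prod = (1, Fi23Class.tp, 1) := by
  show (armW.map fun x => ((presFi22.σ x, dCoord x, gU x) : Amb)).prod = _
  rw [prod_triple, presFi22.rels_one spiderW_rel.2.1, gU_one arm_mat, (dCoord_word _ word_lt.2.1).1, emb_word.2.1,
    word_lt.2.2.2.2.2.2.2.2.1, show (63 : ℕ) = 2 * 31 + 1 from rfl, pow_succ, pow_mul, pow_two, tp_sq, one_pow, one_mul,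
    one_mul]

theorem gCov_spider : (spiderW.map gCov).prod = (1, 1, (spiderW.map gU).prod) := by
  show (spiderW.map fun x => ((presFi22.σ x, dCoord x, gU x) : Amb)).prod = _
  rw [prod_triple, presFi22.rels_one spiderW_rel.1, (dCoord_word _ word_lt.1).1, emb_word.1,
    word_lt.2.2.2.2.2.2.2.1, show (90 : ℕ) = 2 * 45 from rfl, pow_mul, pow_two, tp_sq, one_pow, one_mul]

/-- The sixfold cover. -/
noncomputable def cover : Subgroup Amb := Subgroup.closure (gCov '' Set.Iio 9)

/-- The generators inside the cover. -/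
noncomputable def cGen (x : ℕ) : cover :=
  if h : x < 9 then ⟨gCov x, Subgroup.subset_closure ⟨x, h, rfl⟩⟩ else 1

theorem cGen_val {x : ℕ} (hx : x < 9) : (cGen x : Amb) = gCov x := by rw [cGen, dif_pos hx]

theorem cGen_prod {w : List ℕ} (hw : ∀ x ∈ w, x < 9) :
    (((w.map cGen).prod : cover) : Amb) = (w.map gCov).prod := by
  rw [Subgroup.val_list_prod, List.map_map]
  exact congrArg List.prod (List.map_congr_left fun x hx => cGen_val (hw x hx))

theorem cover_central {v : Amb} (h : ∀ x < 9, Commute v (gCov x)) : ∀ e : cover, Commute v (e : Amb) := fun e => by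
  have hle : cover ≤ Subgroup.centralizer ({v} : Set Amb) := (Subgroup.closure_le _).mpr (by
    rintro _ ⟨x, hx, rfl⟩
    exact Subgroup.mem_centralizer_singleton_iff.mpr (h x hx).symm.eq)
  exact (Subgroup.mem_centralizer_singleton_iff.mp (hle e.2) : (e : Amb) * v = v * e).symm

theorem commute_triple {α β γ : Type*} [Mul α] [Mul β] [Mul γ] {a a' : α} {b b' : β} {c c' : γ} (ha : Commute a a')
    (hb : Commute b b') (hc : Commute c c') : Commute ((a, b, c) : α × β × γ) (a', b', c') :=
  Prod.ext ha.eq (Prod.ext hb.eq hc.eq)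

theorem arm_central {x : ℕ} (hx : x < 9) : Commute ((1, Fi23Class.tp, 1) : Amb) (gCov x) :=
  commute_triple (Commute.one_left _) ((tp_comm hx).symm.mul_right (Commute.refl _)) (Commute.one_left _)

theorem spider_central {x : ℕ} (hx : x < 9) : Commute ((1, 1, (spiderW.map gU).prod) : Amb) (gCov x) :=
  commute_triple (Commute.one_left _) (Commute.one_left _) (wU_central hx)

attribute [local irreducible] gU dCoord

/-- **The Schur multiplier of the presented Fi22 is cyclic of order six.** -/
theorem multiplier : Cfsg.HasCyclicSchurMultiplier presFi22.Grp 6 := by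
  haveI : Finite presFi22.Grp := Cfsg.Agent.S1696.upper.1
  haveI : Finite presFi23.Grp := Cfsg.Agent.S1697.upper.1
  haveI : Finite (Matrix (Fin dimF) (Fin dimF) (ZMod 2))ˣ :=
    @Finite.of_injective _ (Matrix (Fin dimF) (Fin dimF) (ZMod 2))
      (@Pi.finite _ _ _ fun _ => @Pi.finite _ _ _ fun _ => inferInstance) Units.val Units.val_injective
  haveI : Finite cover := inferInstance
  let π : cover →* presFi22.Grp := (MonoidHom.fst _ _).comp cover.subtype
  have hπg : ∀ x < 9, π (cGen x) = presFi22.σ x := fun x hx => congrArg Prod.fst (cGen_val hx)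
  have hA : Artin cGen (1 : cover) := by
    have g := gCov_artin
    refine ⟨fun x => Commute.one_left x, fun i hi => Subtype.ext ?_, fun i hi j hj h => Subtype.ext ?_,
      fun i hi j hj h => Subtype.ext ?_⟩
    · rw [Subgroup.coe_mul, cGen_val hi, g.sq i hi]; rfl
    · rw [Subgroup.coe_mul, Subgroup.coe_mul, cGen_val hi, cGen_val hj, (g.comm i hi j hj h).eq]
    · simp only [Subgroup.coe_mul, cGen_val hi, cGen_val hj]
      exact g.braid i hi j hj h
  have h7 : (sevenW.map cGen).prod = 1 := Subtype.ext ((cGen_prod word_lt.2.2.1).trans gCov_seven)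
  have hgen : Subgroup.closure (cGen '' Set.Iio 9) = ⊤ := by
    refine Subgroup.map_injective (Subgroup.subtype_injective cover) ?_
    rw [MonoidHom.map_closure, ← MonoidHom.range_eq_map, Subgroup.range_subtype, ← Set.image_comp]
    show _ = Subgroup.closure (gCov '' Set.Iio 9)
    exact congrArg Subgroup.closure (Set.image_congr fun x hx => cGen_val hx)
  have hac : ∀ e, Commute (armW.map cGen).prod e := fun e => Subtype.ext (by
    show ((armW.map cGen).prod : Amb) * e = e * ((armW.map cGen).prod : Amb)
    rw [cGen_prod word_lt.2.1, gCov_arm]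
    exact (cover_central (fun x hx => arm_central hx) e).eq)
  have hsc : ∀ e, Commute (spiderW.map cGen).prod e := fun e => Subtype.ext (by
    show ((spiderW.map cGen).prod : Amb) * e = e * ((spiderW.map cGen).prod : Amb)
    rw [cGen_prod word_lt.1, gCov_spider]
    exact (cover_central (fun x hx => spider_central hx) e).eq)
  set z : cover := (spiderW.map cGen).prod * (armW.map cGen).prod with hzd
  have hzval : (z : Amb) = (1, Fi23Class.tp, (spiderW.map gU).prod) := by
    rw [hzd, Subgroup.coe_mul, cGen_prod word_lt.1, cGen_prod word_lt.2.1, gCov_spider, gCov_arm]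
    simp
  have hspan := ker_span hπg hA h7 hgen hac hsc
  have hsurj : Function.Surjective π := by
    rw [← MonoidHom.range_eq_top, eq_top_iff, ← presFi22.gen_closure, Subgroup.closure_le]
    rintro _ ⟨x, hx, rfl⟩
    exact ⟨cGen x, hπg x hx⟩
  have hperfect : commutator cover = ⊤ := by
    have key : ∀ x < 9, Abelianization.of (cGen x) = (1 : Abelianization cover) := by
      have eq : ∀ i j, i < 9 → j < 9 → joined2 i j = true → Abelianization.of (cGen i) = Abelianization.of (cGen j) := by
        intro i j hi hj h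
        have b := congrArg Abelianization.of (hA.braid i hi j hj h)
        simp only [map_mul] at b
        rw [mul_comm (Abelianization.of (cGen j)) (Abelianization.of (cGen i))] at b
        exact mul_left_cancel b
      have q1 := eq 0 1 (by decide) (by decide) (by decide)
      have q2 := q1.trans (eq 1 2 (by decide) (by decide) (by decide))
      have q3 := q2.trans (eq 2 3 (by decide) (by decide) (by decide))
      have q4 := q3.trans (eq 3 4 (by decide) (by decide) (by decide))
      have q5 := q4.trans (eq 4 5 (by decide) (by decide) (by decide))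
      have q6 := q5.trans (eq 5 6 (by decide) (by decide) (by decide))
      have q7 := q3.trans (eq 3 7 (by decide) (by decide) (by decide))
      have q8 := q7.trans (eq 7 8 (by decide) (by decide) (by decide))
      set g := Abelianization.of (cGen 0) with hg
      have all : ∀ x < 9, Abelianization.of (cGen x) = g := by
        intro x hx
        interval_cases x
        exacts [rfl, q1.symm, q2.symm, q3.symm, q4.symm, q5.symm, q6.symm, q7.symm, q8.symm]
      have g2 : g * g = 1 := by rw [hg, ← map_mul, hA.sq 0 (by decide), map_one]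
      have h := congrArg Abelianization.of h7
      rw [map_list_prod, List.map_map, map_one, show sevenW.map (Abelianization.of ∘ cGen) = sevenW.map fun _ => g from
        List.map_congr_left fun x hx => all x (word_lt.2.2.1 x hx), List.map_const', List.prod_replicate,
        word_lt.2.2.2.2.2.2.2.2.2.1, show (63 : ℕ) = 2 * 31 + 1 from rfl, pow_succ, pow_mul, pow_two, g2, one_pow,
        one_mul] at h
      intro x hx
      rw [all x hx, h]
    rw [← Abelianization.ker_of, MonoidHom.ker_eq_top_iff]
    refine MonoidHom.eq_of_eqOn_dense hgen ?_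
    rintro _ ⟨x, hx, rfl⟩
    exact key x hx
  have hz1 : π z = 1 := congrArg Prod.fst hzval
  have hcentral : π.ker ≤ Subgroup.center cover := fun e he => by
    obtain ⟨k, rfl⟩ := hspan e he
    exact Subgroup.mem_center_iff.mpr fun g => (((hsc g).mul_left (hac g)).pow_left k).eq.symm
  set zk : π.ker := ⟨z, hz1⟩
  have hz6 : zk ^ 6 = 1 := Subtype.ext (sa_pow_six hA hsc)
  have hbij : Function.Bijective (sixHom zk hz6) := by
    refine ⟨?_, fun k => ?_⟩
    · rw [injective_iff_map_eq_one]
      intro x hx
      have hval : (z : Amb) ^ (Multiplicative.toAdd x).val = 1 := by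
        rw [← Subgroup.coe_pow]
        exact congrArg (fun k : π.ker => ((k : cover) : Amb)) hx
      rw [hzval, Prod.pow_mk, Prod.pow_mk] at hval
      obtain ⟨-, e2, e3⟩ : _ ∧ _ ∧ _ := ⟨congrArg Prod.fst hval, congrArg (Prod.fst ∘ Prod.snd) hval,
        congrArg (Prod.snd ∘ Prod.snd) hval⟩
      simp only [Function.comp_apply, Prod.fst_one, Prod.snd_one] at e2 e3
      set W := (spiderW.map gU).prod with hW
      have hW3 : W ^ 3 = 1 := by
        have h := congrArg (fun v : Amb => v.2.2) (congrArg Subtype.val (spider_cube hA hsc))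
        rw [Subgroup.coe_pow, cGen_prod word_lt.1, gCov_spider, Prod.pow_mk, Prod.pow_mk] at h
        exact h
      have hWne : W ≠ 1 := fun e => wU_ne (by rw [← hW, e, one_pow])
      have htne : Fi23Class.tp ≠ 1 := fun e => by
        have h := Fi23Class.facts.2.1.1.1 Fi23Class.tp mem_conjugatesOf_self
        rw [e, orderOf_one] at h
        omega
      have d2 := orderOf_dvd_of_pow_eq_one e2
      have d3 := orderOf_dvd_of_pow_eq_one e3
      rw [orderOf_eq_prime (p := 2) (by rw [pow_two]; exact tp_sq) htne] at d2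
      haveI : Fact (Nat.Prime 3) := ⟨Nat.prime_three⟩
      rw [orderOf_eq_prime (p := 3) hW3 hWne] at d3
      have hlt := ZMod.val_lt (Multiplicative.toAdd x)
      have h0 : (Multiplicative.toAdd x).val = 0 := by omega
      exact Multiplicative.toAdd.injective ((ZMod.val_eq_zero _).mp h0)
    · obtain ⟨n, hn⟩ := hspan k.1 k.2
      exact ⟨Multiplicative.ofAdd (n : ZMod 6), by rw [sixHom_range]; exact Subtype.ext (by simpa using hn.symm)⟩
  refine ⟨⟨cover, inferInstance, inferInstance, π, ⟨hsurj, hcentral, by rw [hperfect]; exact le_top⟩,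
    ⟨(MulEquiv.ofBijective _ hbij).symm⟩⟩, ?_⟩
  intro Γ _ _ σ hσ
  exact kernel_image hσ

end CfsgLib.CosetEnum.Fi22Mult
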